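import Mathlib.Algebra.Algebra.Subalgebra.Lattice
import Mathlib.Algebra.Polynomial.AlgebraMap
import Mathlib.LinearAlgebra.Prod
import Mathlib.Tactic.Ring
import Mathlib.Tactic.LinearCombination
import Mathlib.Tactic.Abel

/-!
Adjoining a "branch" to an algebra: from a rational point `lam : S → R` and a twisted derivation
`D` (i.e. `D (s * t) = s * D t + lam t • D s`) build a commutative algebra structure on
`S ⊕ z R[z]` with `s * z = D s + lam s • z`.
-/

noncomputable section

namespace Groth.Agent.L21.UCurve.Ext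

universe u v

open Polynomial

structure Datum (R : Type u) (S : Type v) [CommRing R] [CommRing S] [Algebra R S] where
  lam : S →ₐ[R] R
  D : S →ₗ[R] S
  D_mul : ∀ s t, D (s * t) = s * D t + lam t • D s

variable {R : Type u} {S : Type v} [CommRing R] [CommRing S] [Algebra R S] (δ : Datum R S)

theorem Datum.D_one : δ.D 1 = 0 := by
  have h := δ.D_mul 1 1
  simpa using h

abbrev Car (R : Type u) (S : Type v) [CommRing R] [CommRing S] [Algebra R S] := S × R[X]

/-- Multiplication by the new variable. -/
def Z : Module.End R (Car R S) where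
  toFun p := (δ.D p.1, C (δ.lam p.1) + X * p.2)
  map_add' p q := by simp only [Prod.fst_add, Prod.snd_add, map_add, Prod.mk_add_mk]; ring_nf
  map_smul' r p := by
    simp only [Prod.smul_fst, Prod.smul_snd, map_smul, RingHom.id_apply, Prod.smul_mk, smul_add,
      smul_eq_mul, mul_smul_comm, Polynomial.smul_C]

theorem Z_apply (s : S) (q : R[X]) : Z δ (s, q) = (δ.D s, C (δ.lam s) + X * q) := rfl

theorem aeval_Z_zero (q q' : R[X]) : aeval (Z δ) q ((0 : S), q') = ((0 : S), q * q') := by
  induction q using Polynomial.induction_on' with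
  | add a b ha hb => rw [map_add, LinearMap.add_apply, ha, hb, add_mul, Prod.mk_add_mk, add_zero]
  | monomial n r =>
    induction n generalizing r with
    | zero =>
      rw [Polynomial.monomial_zero_left, aeval_C, Module.algebraMap_end_apply, Prod.smul_mk,
        smul_zero, ← Polynomial.smul_eq_C_mul]
    | succ n ih =>
      rw [← Polynomial.X_mul_monomial, map_mul, aeval_X, Module.End.mul_apply, ih, Z_apply]
      simp only [map_zero, zero_add, mul_assoc]

theorem Z_aeval_one (q : R[X]) : Z δ (aeval (Z δ) q ((1 : S), 0)) = ((0 : S), q) := by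
  have h : Z δ * aeval (Z δ) q = aeval (Z δ) q * Z δ := by
    have := congrArg (aeval (Z δ)) (mul_comm X q)
    simpa using this
  rw [← Module.End.mul_apply, h, Module.End.mul_apply, Z_apply]
  simp [δ.D_one, aeval_Z_zero]

/-- Multiplication by an element of `S`. -/
def T (s : S) : Module.End R (Car R S) where
  toFun p := (s * p.1, 0) + Z δ (aeval (Z δ) p.2 (s, 0))
  map_add' p q := by
    simp only [Prod.fst_add, Prod.snd_add, map_add, LinearMap.add_apply, mul_add]
    rw [show (s * p.1 + s * q.1, (0 : R[X])) = (s * p.1, 0) + (s * q.1, 0) by simp]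
    abel
  map_smul' r p := by
    simp only [Prod.smul_fst, Prod.smul_snd, map_smul, LinearMap.smul_apply, RingHom.id_apply,
      smul_add, Prod.smul_mk, smul_zero, mul_smul_comm]

theorem T_apply (s s' : S) (q : R[X]) :
    T δ s (s', q) = (s * s', 0) + Z δ (aeval (Z δ) q (s, 0)) := rfl

theorem T_zero_right (s s' : S) : T δ s (s', 0) = (s * s', 0) := by simp [T_apply]

theorem comm_Z (s : S) : T δ s * Z δ = Z δ * T δ s := by
  refine LinearMap.ext fun ⟨s', q⟩ => ?_
  rw [Module.End.mul_apply, Module.End.mul_apply, Z_apply, T_apply, T_apply]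
  simp only [map_add, map_mul, aeval_C, aeval_X, LinearMap.add_apply, Module.algebraMap_end_apply,
    Module.End.mul_apply, map_smul]
  rw [Z_apply δ (s * s') 0, Z_apply δ s 0, δ.D_mul, mul_zero, add_zero, add_zero, map_mul, ← add_assoc]
  congr 1
  ext1
  · simp
  · simp [Polynomial.smul_eq_C_mul, mul_comm]

theorem exists_preimage (t : Car R S) :
    t = (t.1, 0) + Z δ (aeval (Z δ) t.2 ((1 : S), 0)) := by
  rw [Z_aeval_one]; simp

theorem ext_of_comm {a b : Module.End R (Car R S)} (ha : a * Z δ = Z δ * a) (hb : b * Z δ = Z δ * b)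
    (h : ∀ s : S, a (s, 0) = b (s, 0)) : a = b := by
  refine LinearMap.ext fun t => ?_
  rw [exists_preimage δ t, map_add, map_add, h]
  congr 1
  have ca : Commute a (aeval (Z δ) t.2) := by
    induction t.2 using Polynomial.induction_on' with
    | add p q hp hq => rw [map_add]; exact hp.add_right hq
    | monomial n r =>
      rw [aeval_monomial]
      exact (Algebra.commute_algebraMap_right r a).mul_right ((show Commute a (Z δ) from ha).pow_right n)
  have cb : Commute b (aeval (Z δ) t.2) := by
    induction t.2 using Polynomial.induction_on' with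
    | add p q hp hq => rw [map_add]; exact hp.add_right hq
    | monomial n r =>
      rw [aeval_monomial]
      exact (Algebra.commute_algebraMap_right r b).mul_right ((show Commute b (Z δ) from hb).pow_right n)
  have e1 : ∀ (f g : Module.End R (Car R S)), f * g = g * f → ∀ x, f (g x) = g (f x) :=
    fun f g hfg x => LinearMap.congr_fun hfg x
  rw [e1 _ _ ha, e1 _ _ hb, e1 _ _ ca.eq, e1 _ _ cb.eq, h]

/-- `s ↦ T s` as an algebra map. -/
def TA : S →ₐ[R] Module.End R (Car R S) :=
  AlgHom.ofLinearMap
    { toFun := T δ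
      map_add' := fun s t => ext_of_comm δ (comm_Z δ _) (by rw [add_mul, mul_add, comm_Z, comm_Z])
        fun x => by simp [T_zero_right, add_mul]
      map_smul' := fun r s => ext_of_comm δ (comm_Z δ _)
        (by rw [RingHom.id_apply, smul_mul_assoc, mul_smul_comm, comm_Z]) fun x => by
          simp [T_zero_right] }
    (ext_of_comm δ (comm_Z δ _) (by rw [one_mul, mul_one]) fun x => by simp [T_zero_right])
    (fun s t => ext_of_comm δ (comm_Z δ _)
      (by
        show T δ s * T δ t * Z δ = Z δ * (T δ s * T δ t)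
        rw [mul_assoc, comm_Z, ← mul_assoc, comm_Z, mul_assoc]) fun x => by
        simp [T_zero_right, mul_assoc])

theorem TA_apply (s : S) : TA δ s = T δ s := rfl

theorem comm_gens : ∀ a ∈ Set.range (T δ) ∪ {Z δ}, ∀ b ∈ Set.range (T δ) ∪ {Z δ}, a * b = b * a := by
  rintro a (⟨s, rfl⟩ | rfl) b (⟨t, rfl⟩ | rfl)
  · rw [← TA_apply, ← TA_apply, ← map_mul, ← map_mul, mul_comm]
  · exact comm_Z δ s
  · exact (comm_Z δ t).symm
  · rfl

/-- The extended algebra. -/
def Alg : Subalgebra R (Module.End R (Car R S)) := Algebra.adjoin R (Set.range (T δ) ∪ {Z δ})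

instance : IsMulCommutative (Alg δ) := Algebra.isMulCommutative_adjoin R (comm_gens δ)

open scoped IsMulCommutative in
instance instCommRing : CommRing (Alg δ) := inferInstance

def ι : S →ₐ[R] Alg δ :=
  (TA δ).codRestrict _ fun s => Algebra.subset_adjoin (Or.inl ⟨s, rfl⟩)

def z : Alg δ := ⟨Z δ, Algebra.subset_adjoin (Or.inr rfl)⟩

/-- Value at `1`. -/
def ev : Alg δ →ₗ[R] Car R S where
  toFun a := a.1 ((1 : S), 0)
  map_add' _ _ := rfl
  map_smul' _ _ := rfl

theorem ev_ι (s : S) : ev δ (ι δ s) = (s, 0) := by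
  show T δ s ((1 : S), 0) = _
  rw [T_zero_right, mul_one]

theorem ev_z_pow (k : ℕ) : ev δ (z δ ^ (k + 1)) = (0, X ^ k) := by
  show ((z δ ^ (k + 1) : Alg δ) : Module.End R (Car R S)) ((1 : S), 0) = _
  rw [SubmonoidClass.coe_pow, pow_succ', Module.End.mul_apply]
  have := Z_aeval_one δ (X ^ k)
  rwa [map_pow, aeval_X] at this

theorem ι_mul_z (s : S) : ι δ s * z δ = ι δ (δ.D s) + δ.lam s • z δ := by
  refine Subtype.ext ?_
  show T δ s * Z δ = T δ (δ.D s) + δ.lam s • Z δ
  refine ext_of_comm δ ?_ ?_ fun s' => ?_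
  · rw [← mul_assoc, ← comm_Z]
  · rw [add_mul, mul_add, comm_Z, smul_mul_assoc, mul_smul_comm]
  · rw [Module.End.mul_apply, Z_apply, T_apply, LinearMap.add_apply, T_zero_right, LinearMap.smul_apply,
      Z_apply, mul_zero, add_zero, aeval_C, Module.algebraMap_end_apply]
    simp only [Prod.smul_mk, smul_zero, Z_apply, map_smul]
    ext1
    · simp
      rw [← δ.D_mul, mul_comm s s', δ.D_mul, mul_comm]
    · simp [Polynomial.smul_eq_C_mul, mul_comm]

end Groth.Agent.L21.UCurve.Ext

end
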