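import Groth.Agent.L21.UCurve.UIso
import Mathlib.RingTheory.MvPolynomial.WeightedHomogeneous
import Mathlib.LinearAlgebra.Dimension.Constructions
import Mathlib.LinearAlgebra.Basis.Basic

/-!
The weight grading on the coordinate ring of `U_n`, detected by an algebra map to polynomials.
-/

noncomputable section

namespace Groth.Agent.L21.UCurve

universe u v

open W4c5m1nsnscurves MvPolynomial

variable (R : Type u) [CommRing R] (m : ℕ)

/-- The grading map `g ↦ g T^(wt g)`. -/
def gval' (g : UGen m) : Polynomial (URing R m) :=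
  Polynomial.C (ugen R m g) * Polynomial.X ^ uwt g

theorem gval'_solves : Solves (gval' R m) := by
  have h := ugen_solves (R := R) (m := m)
  refine ⟨fun i j e => ?_, fun i j e => ?_, fun i j e => ?_, fun i j k a b c => ?_⟩
  · have := congrArg Polynomial.C (h.lin i j e)
    simp only [gval', uwt, map_add] at this ⊢
    linear_combination Polynomial.X * this
  · have := congrArg Polynomial.C (h.qc i j e)
    simp only [gval', uwt, map_add, map_sub, map_mul] at this ⊢
    linear_combination Polynomial.X ^ 2 * this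
  · have := congrArg Polynomial.C (h.qb i j e)
    simp only [gval', uwt, map_add, map_sub, map_mul] at this ⊢
    linear_combination Polynomial.X ^ 2 * this
  · have := congrArg Polynomial.C (h.cub i j k a b c)
    simp only [gval', uwt, map_add, map_sub, map_mul] at this ⊢
    linear_combination Polynomial.X ^ 2 * this

/-- The grading map. -/
def gmap : URing R m →ₐ[R] Polynomial (URing R m) := ulift (gval'_solves R m)

theorem gmap_monomial (s : UGen m →₀ ℕ) (r : R) :
    gmap R m (Ideal.Quotient.mk _ (monomial s r)) =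
      Polynomial.C (Ideal.Quotient.mk _ (monomial s r)) * Polynomial.X ^ (Finsupp.weight uwt s) := by
  have h : gmap R m (Ideal.Quotient.mk _ (monomial s r)) = aeval (gval' R m) (monomial s r) := rfl
  rw [h, aeval_monomial, ← aeval_ugen (monomial s r), aeval_monomial, map_mul,
    IsScalarTower.algebraMap_apply R (URing R m) (Polynomial (URing R m)), Polynomial.algebraMap_eq,
    mul_assoc]
  congr 1
  simp only [gval', Finsupp.prod, map_prod, map_pow, Finsupp.weight_apply, Finsupp.sum, smul_eq_mul]
  rw [← Finset.prod_pow_eq_pow_sum s.support (fun x => s x * uwt x) (Polynomial.X (R := URing R m)),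
    ← Finset.prod_mul_distrib]
  refine Finset.prod_congr rfl fun i _ => ?_
  ring

theorem gmap_piece {d : ℕ} {x : URing R m} (hx : x ∈ upiece R m d) :
    gmap R m x = Polynomial.C x * Polynomial.X ^ d := by
  obtain ⟨p, hp, rfl⟩ := (GrQuot.mem_quot_iff _ _ d x).1 hx
  rw [mem_weightedHomogeneousSubmodule] at hp
  conv_lhs => rw [p.as_sum]
  conv_rhs => rw [p.as_sum]
  rw [map_sum, map_sum, map_sum, Finset.sum_mul]
  refine Finset.sum_congr rfl fun s hs => ?_
  rw [gmap_monomial, hp (mem_support_iff.1 hs)]

/-- The projection to weight `d`. -/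
def proj (d : ℕ) : URing R m →ₗ[R] URing R m :=
  ((Polynomial.lcoeff (URing R m) d).restrictScalars R).comp (gmap R m).toLinearMap

theorem proj_piece {d e : ℕ} {x : URing R m} (hx : x ∈ upiece R m e) :
    proj R m d x = if d = e then x else 0 := by
  show (gmap R m x).coeff d = _
  rw [gmap_piece R m hx, Polynomial.coeff_C_mul_X_pow]

theorem upiece_indep : iSupIndep (upiece R m) := by
  intro d
  rw [Submodule.disjoint_def]
  intro x hx hx'
  have h1 : proj R m d x = x := by rw [proj_piece R m hx, if_pos rfl]
  have h2 : (⨆ (e) (_ : e ≠ d), upiece R m e) ≤ LinearMap.ker (proj R m d) := by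
    refine iSup₂_le fun e he y hy => ?_
    rw [LinearMap.mem_ker, proj_piece R m hy, if_neg (Ne.symm he)]
  rw [← h1]
  exact LinearMap.mem_ker.1 (h2 hx')

theorem ugen_mem (g : UGen m) : ugen R m g ∈ upiece R m (uwt g) :=
  GrQuot.mk_mem_quot _ _ ((mem_weightedHomogeneousSubmodule _ _ _ _).2 (isWeightedHomogeneous_X _ _ _))

theorem upiece_one : (1 : URing R m) ∈ upiece R m 0 := by
  rw [← map_one (Ideal.Quotient.mk (Ideal.span (URel R m)))]
  exact GrQuot.mk_mem_quot _ _ ((mem_weightedHomogeneousSubmodule _ _ _ _).2 (isWeightedHomogeneous_one _ _))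

theorem upiece_mul {d e : ℕ} {x y : URing R m} (hx : x ∈ upiece R m d) (hy : y ∈ upiece R m e) :
    x * y ∈ upiece R m (d + e) := by
  obtain ⟨p, hp, rfl⟩ := (GrQuot.mem_quot_iff _ _ d x).1 hx
  obtain ⟨q, hq, rfl⟩ := (GrQuot.mem_quot_iff _ _ e y).1 hy
  rw [mem_weightedHomogeneousSubmodule] at hp hq
  rw [← map_mul]
  exact GrQuot.mk_mem_quot _ _ ((mem_weightedHomogeneousSubmodule _ _ _ _).2 (hp.mul hq))

theorem upiece_pow {x : URing R m} (hx : x ∈ upiece R m 1) :
    ∀ k : ℕ, x ^ k ∈ upiece R m k
  | 0 => by rw [pow_zero]; exact upiece_one R m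
  | k + 1 => by rw [pow_succ]; exact upiece_mul R m (upiece_pow hx k) hx

variable {R m}

theorem uincl_mem {d : ℕ} {x : URing R m} (hx : x ∈ upiece R m d) :
    uincl R m x ∈ upiece R (m + 1) d := by
  obtain ⟨p, hp, rfl⟩ := (GrQuot.mem_quot_iff _ _ d x).1 hx
  rw [mem_weightedHomogeneousSubmodule] at hp
  show Ideal.Quotient.mk _ (rename UGen.castSucc p) ∈ _
  conv => arg 2; rw [p.as_sum]
  rw [map_sum, map_sum]
  refine Submodule.sum_mem _ fun s hs => ?_
  rw [rename_monomial]
  refine GrQuot.mk_mem_quot _ _ ((mem_weightedHomogeneousSubmodule _ _ _ _).2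
    (isWeightedHomogeneous_monomial _ _ _ ?_))
  rw [← hp (mem_support_iff.1 hs), Finsupp.weight_apply, Finsupp.weight_apply,
    Finsupp.sum_mapDomain_index (h := fun (g : UGen (m + 1)) (c : ℕ) => c • uwt g)
      (fun _ => zero_smul ℕ _) (fun _ _ _ => add_smul _ _ _)]
  refine Finsupp.sum_congr fun g _ => ?_
  cases g <;> rfl

/-- A homogeneous basis determines the pieces. -/
theorem pieces_of_basis {ι : Type v} (b : Module.Basis ι R (URing R m)) (wt : ι → ℕ)
    (hb : ∀ i, b i ∈ upiece R m (wt i)) :
    DirectSum.IsInternal (upiece R m) ∧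
      ∀ d, upiece R m d = Submodule.span R (b '' {i | wt i = d}) := by
  refine ⟨?_, fun d => ?_⟩
  · rw [DirectSum.isInternal_submodule_iff_iSupIndep_and_iSup_eq_top]
    refine ⟨upiece_indep R m, ?_⟩
    rw [eq_top_iff, ← b.span_eq, Submodule.span_le]
    rintro _ ⟨i, rfl⟩
    exact Submodule.mem_iSup_of_mem (wt i) (hb i)
  · refine le_antisymm (fun x hx => ?_) (Submodule.span_le.2 ?_)
    · have h : proj R m d x = x := by rw [proj_piece R m hx, if_pos rfl]
      rw [← h]
      have hle : (⊤ : Submodule R (URing R m)) ≤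
          (Submodule.span R (b '' {i | wt i = d})).comap (proj R m d) := by
        rw [← b.span_eq, Submodule.span_le]
        rintro _ ⟨i, rfl⟩
        change proj R m d (b i) ∈ Submodule.span R (b '' {i | wt i = d})
        rw [proj_piece R m (hb i)]
        split_ifs with e
        · exact Submodule.subset_span ⟨i, e.symm, rfl⟩
        · exact zero_mem _
      exact hle (Submodule.mem_top (x := x))
    · rintro _ ⟨i, rfl, rfl⟩
      exact hb i

end Groth.Agent.L21.UCurve

end
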