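import Mathlib.Tactic.Ring
import Mathlib.Tactic.LinearCombination

/-!
The finitely many overlap identities behind the basis theorem for the curve over `U_n`.
`n` is the new point, `i, j` are old ones.
-/

namespace Groth.Agent.L21.UCurve.Ident

variable {A : Type*} [CommRing A] {x2 x3 xi xj a c cb cn cbn ci cbi cj cbj cnj cjn cni cin cij cji : A}

variable (hF : x2 * x3 ^ 2 = x2 ^ 2 * x3 + a * x2 * x3 + (cb - c) * x2 + c * x3 +
  (-(a + cbn) * c + (a + cn + cbn) * cn * cbn - cn * cb))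

variable (h2i : x2 * xi = x2 * x3 + ci * xi + cbi * x2 - c)
  (h3i : x3 * xi = x2 * x3 + (a + ci + cbi) * (xi - cbi) + cb - c)
  (h2j : x2 * xj = x2 * x3 + cj * xj + cbj * x2 - c)
  (h3j : x3 * xj = x2 * x3 + (a + cj + cbj) * (xj - cbj) + cb - c)
  (hij : xi * xj = x2 * x3 + cij * xj + cji * xi - c)

-- linear relations
variable (ljn : cjn = a + cj + cbj + cn + cbn - cnj) (lin : cin = a + ci + cbi + cn + cbn - cni)
  (lij : cij = a + ci + cbi + cj + cbj - cji)

-- quadratic relations for the pair (j, n)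
variable (qc : c = cnj * cn + cjn * cj - cj * cn) (qb : cb = cnj * cbj + cjn * cbn - cbj * cbn)

-- cubic relations
variable (K1 : cnj * cji + cjn * cni - cni * cji + (a + ci + cbi) * ci = c)
  (K2 : cni * cij + cin * cnj - cnj * cij + (a + cj + cbj) * cj = c)

include hF in
theorem p23 : (x2 - cn) * (x2 * x3 - (a + cn + cbn) * cbn + cb - c) =
    (x3 - (a + cn + cbn)) * (x2 * x3 + cbn * x2 - c) := by
  linear_combination (-1 : A) * hF

include h2j h3j ljn qc qb in
theorem p2j : (x2 - cn) * (x2 * x3 + cnj * xj - c) = (xj - cjn) * (x2 * x3 + cbn * x2 - c) := by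
  subst qc qb
  subst ljn
  linear_combination (-x2) * h3j + (cnj - cbn - (a + cj + cbj)) * h2j

include hF h2j h3j ljn qc qb in
theorem p3j : (x3 - (a + cn + cbn)) * (x2 * x3 + cnj * xj - c) =
    (xj - cjn) * (x2 * x3 - (a + cn + cbn) * cbn + cb - c) := by
  subst qc qb
  subst ljn
  linear_combination hF + (-x2) * h3j + cnj * h3j - (a + cj + cbj) * h2j

include h2i h3i h2j h3j hij ljn lin K1 K2 in
theorem pij : (xi - cin) * (x2 * x3 + cnj * xj - c) = (xj - cjn) * (x2 * x3 + cni * xi - c) := by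
  subst ljn lin
  linear_combination x2 * h3i - x2 * h3j + (a + ci + cbi) * h2i - (a + cj + cbj) * h2j
    + (cnj - cni) * hij + xi * K1 - xj * K2

include h2j ljn qc qb in
theorem d2 : x2 * (x2 * x3 + cnj * xj - c) + cjn * (x2 * x3 + cbn * x2 - c) =
    x2 * (x2 * x3 - (a + cn + cbn) * cbn + cb - c) + (a + cn + cbn) * (x2 * x3 + cbn * x2 - c)
    + cj * (x2 * x3 + cnj * xj - c) + cbj * (x2 * x3 + cbn * x2 - c) := by
  subst qc qb
  subst ljn
  linear_combination cnj * h2j

include hF h3j ljn qc qb in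
theorem d3 : x3 * (x2 * x3 + cnj * xj - c) + cjn * (x2 * x3 - (a + cn + cbn) * cbn + cb - c) =
    x2 * (x2 * x3 - (a + cn + cbn) * cbn + cb - c) + (a + cn + cbn) * (x2 * x3 + cbn * x2 - c)
    + (a + cj + cbj) * (x2 * x3 + cnj * xj - c) := by
  subst qc qb
  subst ljn
  linear_combination hF + cnj * h3j

include h2i h3i hij ljn lij K1 in
theorem dx : xi * (x2 * x3 + cnj * xj - c) + cjn * (x2 * x3 + cni * xi - c) =
    x2 * (x2 * x3 - (a + cn + cbn) * cbn + cb - c) + (a + cn + cbn) * (x2 * x3 + cbn * x2 - c)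
    + cij * (x2 * x3 + cnj * xj - c) + cji * (x2 * x3 + cni * xi - c) := by
  subst ljn lij
  linear_combination x2 * h3i + (a + ci + cbi) * h2i + cnj * hij + xi * K1

include hF in
theorem dF :
    x2 * x3 * (x2 * x3 - (a + cn + cbn) * cbn + cb - c) +
      (a + cn + cbn) * (x2 * (x2 * x3 - (a + cn + cbn) * cbn + cb - c) + (a + cn + cbn) * (x2 * x3 + cbn * x2 - c)) =
    x2 * (x2 * (x2 * x3 - (a + cn + cbn) * cbn + cb - c) + (a + cn + cbn) * (x2 * x3 + cbn * x2 - c))
      + cn * (a + cn + cbn) * (x2 * x3 + cbn * x2 - c)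
      + a * (x2 * (x2 * x3 - (a + cn + cbn) * cbn + cb - c) + (a + cn + cbn) * (x2 * x3 + cbn * x2 - c))
      + (cb - c) * (x2 * x3 + cbn * x2 - c) + c * (x2 * x3 - (a + cn + cbn) * cbn + cb - c) := by
  linear_combination x2 * hF

end Groth.Agent.L21.UCurve.Ident
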