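import Groth.Agent.L21.UCurve.Ext
import Mathlib.RingTheory.Ideal.Quotient.Operations
import Mathlib.Algebra.MvPolynomial.CommRing
import Mathlib.Algebra.Algebra.Subalgebra.Lattice

/-!
Twisted derivations on a quotient of a polynomial ring from values on the variables.
-/

noncomputable section

namespace Groth.Agent.L21.UCurve

universe u v w

open MvPolynomial

variable {R : Type u} [CommRing R] {σ : Type w} {S : Type v} [CommRing S] [Algebra R S]

/-- The operator attached to a value `(x, g, l)`. -/
def tOp (x g : S) (l : R) : Module.End R (S × R) where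
  toFun p := (x * p.1 + p.2 • g, l * p.2)
  map_add' p q := by
    ext1
    · simp only [Prod.fst_add, Prod.snd_add, mul_add, add_smul]; abel
    · simp only [Prod.snd_add, mul_add]
  map_smul' r p := by
    ext1
    · simp [mul_smul_comm, smul_smul]
    · simp [mul_left_comm]

theorem exists_twisted (x g : σ → S) (l : σ → R)
    (hpair : ∀ a b, x a * g b + l b • g a = x b * g a + l a • g b) :
    ∃ D0 : MvPolynomial σ R →ₗ[R] S, (∀ r, D0 (C r) = 0) ∧ (∀ y, D0 (X y) = g y) ∧
      ∀ p q, D0 (p * q) = aeval x p * D0 q + aeval l q • D0 p := by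
  classical
  let f : σ → Module.End R (S × R) := fun y => tOp (x y) (g y) (l y)
  have hc : ∀ a ∈ Set.range f, ∀ b ∈ Set.range f, a * b = b * a := by
    rintro _ ⟨a, rfl⟩ _ ⟨b, rfl⟩
    refine LinearMap.ext fun ⟨u, r⟩ => Prod.ext ?_ (mul_left_comm _ _ _)
    show x a * (x b * u + r • g b) + (l b * r) • g a = x b * (x a * u + r • g a) + (l a * r) • g b
    have := hpair a b
    simp only [Algebra.smul_def, map_mul] at this ⊢
    linear_combination (algebraMap R S r) * this
  haveI := Algebra.isMulCommutative_adjoin R hc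
  letI : CommRing (Algebra.adjoin R (Set.range f)) := open scoped IsMulCommutative in inferInstance
  let φ0 : MvPolynomial σ R →ₐ[R] Algebra.adjoin R (Set.range f) :=
    aeval fun y => ⟨f y, Algebra.subset_adjoin ⟨y, rfl⟩⟩
  let φ : MvPolynomial σ R →ₐ[R] Module.End R (S × R) := (Algebra.adjoin R (Set.range f)).val.comp φ0
  have hφX : ∀ y, φ (X y) = f y := fun y => by simp [φ, φ0]
  let D0 : MvPolynomial σ R →ₗ[R] S :=
    { toFun := fun p => (φ p ((0 : S), (1 : R))).1
      map_add' := fun p q => by simp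
      map_smul' := fun r p => by simp }
  have key : ∀ p u r, φ p (u, r) = (aeval x p * u + r • D0 p, aeval l p * r) := by
    intro p
    induction p using MvPolynomial.induction_on with
    | C c =>
      intro u r
      simp [D0, Algebra.smul_def, Module.algebraMap_end_apply]
    | add p q hp hq =>
      intro u r
      ext1 <;> simp [hp, hq, add_mul, mul_add, smul_add] <;> abel
    | mul_X p y hp =>
      intro u r
      have hD : D0 (p * X y) = aeval x p * g y + l y • D0 p := by
        show (φ (p * X y) ((0 : S), (1 : R))).1 = _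
        rw [map_mul, Module.End.mul_apply, hφX]
        show (φ p (x y * 0 + (1 : R) • g y, l y * 1)).1 = _
        rw [hp]; simp
      rw [map_mul, Module.End.mul_apply, hφX]
      show φ p (x y * u + r • g y, l y * r) = _
      rw [hp, hD]
      ext1
      · simp only [map_mul, aeval_X, Algebra.smul_def]
        ring
      · simp only [map_mul, aeval_X]
        ring
  refine ⟨D0, fun r => ?_, fun y => ?_, fun p q => ?_⟩
  · show (φ (C r) ((0 : S), (1 : R))).1 = 0
    simp
  · show (φ (X y) ((0 : S), (1 : R))).1 = _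
    rw [hφX]
    simp [f, tOp]
  · show (φ (p * q) ((0 : S), (1 : R))).1 = _
    rw [map_mul, Module.End.mul_apply, key q, key p]
    simp

/-- Descend a twisted derivation to a quotient of the polynomial ring. -/
theorem exists_datum (I : Set (MvPolynomial σ R)) (g : σ → MvPolynomial σ R ⧸ Ideal.span I) (l : σ → R)
    (hl : ∀ p ∈ I, aeval l p = 0)
    (hpair : ∀ a b, Ideal.Quotient.mk (Ideal.span I) (X a) * g b + l b • g a =
      Ideal.Quotient.mk (Ideal.span I) (X b) * g a + l a • g b)
    (hD : ∀ D0 : MvPolynomial σ R →ₗ[R] MvPolynomial σ R ⧸ Ideal.span I, (∀ r, D0 (C r) = 0) →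
      (∀ y, D0 (X y) = g y) →
      (∀ p q, D0 (p * q) = Ideal.Quotient.mk (Ideal.span I) p * D0 q + aeval l q • D0 p) →
      ∀ p ∈ I, D0 p = 0) :
    ∃ δ : Ext.Datum R (MvPolynomial σ R ⧸ Ideal.span I),
      ∀ y, δ.D (Ideal.Quotient.mk _ (X y)) = g y ∧ δ.lam (Ideal.Quotient.mk _ (X y)) = l y := by
  obtain ⟨D0, hC, hX, hmul⟩ := exists_twisted (fun y => Ideal.Quotient.mk (Ideal.span I) (X y)) g l hpair
  have hmk : ∀ p, aeval (fun y => Ideal.Quotient.mk (Ideal.span I) (X y)) p =
      Ideal.Quotient.mk (Ideal.span I) p := by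
    intro p
    rw [← Ideal.Quotient.mkₐ_eq_mk R]
    exact AlgHom.congr_fun (MvPolynomial.algHom_ext
      (f := aeval fun y => Ideal.Quotient.mk (Ideal.span I) (X y))
      (g := Ideal.Quotient.mkₐ R _) fun y => by simp) p
  simp only [hmk] at hmul
  have hker : ∀ p ∈ Ideal.span I, aeval l p = 0 := by
    intro p hp
    exact (show Ideal.span I ≤ RingHom.ker (aeval l : MvPolynomial σ R →ₐ[R] R) from
      Ideal.span_le.2 hl) hp
  let lam : MvPolynomial σ R ⧸ Ideal.span I →ₐ[R] R := Ideal.Quotient.liftₐ _ (aeval l) hker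
  have hzero : ∀ p ∈ Ideal.span I, D0 p = 0 := by
    intro p hp
    induction hp using Submodule.span_induction with
    | mem q hq => exact hD D0 hC hX hmul q hq
    | zero => simp
    | add a b _ _ ha hb => rw [map_add, ha, hb, add_zero]
    | smul r a ha' ha => rw [smul_eq_mul, hmul, ha, hker a ha', mul_zero, zero_smul, add_zero]
  let D : MvPolynomial σ R ⧸ Ideal.span I →ₗ[R] MvPolynomial σ R ⧸ Ideal.span I :=
    Submodule.liftQ ((Ideal.span I).restrictScalars R) D0 fun p hp => hzero p hp
  have hDm : ∀ p, D (Ideal.Quotient.mk _ p) = D0 p := fun p => rfl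
  refine ⟨⟨lam, D, fun s t => ?_⟩, fun y => ⟨(hDm _).trans (hX y), by simp [lam]⟩⟩
  obtain ⟨p, rfl⟩ := Ideal.Quotient.mk_surjective s
  obtain ⟨q, rfl⟩ := Ideal.Quotient.mk_surjective t
  rw [← map_mul, hDm, hDm, hDm, hmul]
  simp [lam]

end Groth.Agent.L21.UCurve

end
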