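import Groth.Agent.L21.UCurve.Rels
import Groth.Agent.L21.UCurve.Twist
import Groth.Agent.L21.UCurve.Identities
import Groth.Agent.S18251
import Mathlib.Algebra.Polynomial.Basis

/-!
Linear independence of the monomial family in the curve algebra over a point of `U_n`.
-/

noncomputable section

namespace Groth.Agent.L21.UCurve

universe u

open W4c5m1nsnscurves MvPolynomial

variable {R : Type u} [CommRing R] {m : ℕ}

/-- The cubic relation polynomial. -/
def cubicP (v : UGen m → R) (d : R) : MvPolynomial (CVar m) R :=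
  X .x2 * (X .x3 * X .x3) - (X .x2 * (X .x2 * X .x3) + C (v .a) * (X .x2 * X .x3)
    + (C (v .cb) - C (v .c)) * X .x2 + C (v .c) * X .x3 + C d)

abbrev QRel (v : UGen m → R) (d : R) : Set (MvPolynomial (CVar m) R) :=
  CRel R m v ∪ {cubicP v d}

/-- The curve algebra with the cubic relation. -/
abbrev Q (v : UGen m → R) (d : R) : Type u := MvPolynomial (CVar m) R ⧸ Ideal.span (QRel v d)

def qx (v : UGen m → R) (d : R) (y : CVar m) : Q v d :=
  Ideal.Quotient.mk (Ideal.span (QRel v d)) (X y)

theorem mkC (v : UGen m → R) (d r : R) :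
    Ideal.Quotient.mk (Ideal.span (QRel v d)) (C r) = algebraMap R (Q v d) r := rfl

theorem aeval_qx (v : UGen m → R) (d : R) (p : MvPolynomial (CVar m) R) :
    aeval (qx v d) p = Ideal.Quotient.mk (Ideal.span (QRel v d)) p := by
  rw [← Ideal.Quotient.mkₐ_eq_mk R]
  exact AlgHom.congr_fun (MvPolynomial.algHom_ext (f := aeval (qx v d))
    (g := Ideal.Quotient.mkₐ R _) fun y => by simp [qx]) p

theorem qx_rels (v : UGen m → R) (d : R) : Rels v (qx v d) :=
  rels_of_eval_CRel v _ fun p hp => by
    rw [aeval_qx, Ideal.Quotient.eq_zero_iff_mem]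
    exact Ideal.subset_span (Or.inl hp)

theorem aeval_cubicP {A : Type*} [CommRing A] [Algebra R A] (v : UGen m → R) (d : R)
    (x : CVar m → A) : aeval x (cubicP v d) = 0 ↔ Cubic v x d := by
  simp only [Cubic, cubicP, map_sub, map_add, map_mul, aeval_X, aeval_C]
  constructor <;> intro h <;> linear_combination h

theorem qx_cubic (v : UGen m → R) (d : R) : Cubic v (qx v d) d := by
  rw [← aeval_cubicP, aeval_qx, Ideal.Quotient.eq_zero_iff_mem]
  exact Ideal.subset_span (Or.inr rfl)

def qlift {A : Type*} [CommRing A] [Algebra R A] {v : UGen m → R} {d : R} {x : CVar m → A}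
    (h : Rels v x) (hc : Cubic v x d) : Q v d →ₐ[R] A :=
  Ideal.Quotient.liftₐ _ (aeval x) fun p hp =>
    (show Ideal.span (QRel v d) ≤ RingHom.ker (aeval x : MvPolynomial (CVar m) R →ₐ[R] A) from
      Ideal.span_le.2 fun q hq => by
        rcases hq with hq | rfl
        · exact eval_CRel_of_rels h q hq
        · exact (aeval_cubicP v d x).2 hc) hp

theorem qlift_qx {A : Type*} [CommRing A] [Algebra R A] {v : UGen m → R} {d : R} {x : CVar m → A}
    (h : Rels v x) (hc : Cubic v x d) (y : CVar m) : qlift h hc (qx v d y) = x y := by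
  show aeval x (X y) = x y
  simp

theorem map_mon {A B : Type*} [CommRing A] [CommRing B] [Algebra R A] [Algebra R B]
    (x : CVar m → A) (f : A →ₐ[R] B) : f ∘ mon x = mon (f ∘ x) := by
  funext k
  rcases k with _ | k | ⟨y, k⟩ <;> simp [mon]

section Step

variable (v : UGen (m + 1) → R)

/-- The old part of `v`. -/
abbrev v' : UGen m → R := v ∘ UGen.castSucc

local notation "n'" => Fin.last m

/-- Value of the variables at the new point. -/
def lv : CVar m → R
  | .x2 => v (.ci n')
  | .x3 => v .a + v (.ci n') + v (.cbi n')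
  | .xi j => v (.cij j.castSucc n' (Fin.castSucc_lt_last j).ne)

/-- Values of the twisted derivation. -/
def gv (d : R) : CVar m → Q (v' v) d
  | .x2 => qx _ d .x2 * qx _ d .x3 + algebraMap R _ (v (.cbi n')) * qx _ d .x2 - algebraMap R _ (v .c)
  | .x3 => qx _ d .x2 * qx _ d .x3
      - (algebraMap R _ (v .a) + algebraMap R _ (v (.ci n')) + algebraMap R _ (v (.cbi n'))) *
        algebraMap R _ (v (.cbi n')) + algebraMap R _ (v .cb) - algebraMap R _ (v .c)
  | .xi j => qx _ d .x2 * qx _ d .x3
      + algebraMap R _ (v (.cij n' j.castSucc (Fin.castSucc_lt_last j).ne')) * qx _ d (.xi j)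
      - algebraMap R _ (v .c)

variable {v}

theorem solves' (h : Solves v) : Solves (v' v) := by
  refine ⟨fun i j e => ?_, fun i j e => ?_, fun i j e => ?_, fun i j k a b c => ?_⟩
  · exact h.lin _ _ fun e' => e (Fin.castSucc_injective _ e')
  · exact h.qc _ _ fun e' => e (Fin.castSucc_injective _ e')
  · exact h.qb _ _ fun e' => e (Fin.castSucc_injective _ e')
  · exact h.cub _ _ _ (fun e' => a (Fin.castSucc_injective _ e'))
      (fun e' => b (Fin.castSucc_injective _ e')) (fun e' => c (Fin.castSucc_injective _ e'))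

local notation "ne'" j => (Fin.ne_of_lt (Fin.castSucc_lt_last j))

/-- Quantities of `v` in the old algebra. -/
abbrev kk (v : UGen (m + 1) → R) (d : R) (g : UGen (m + 1)) : Q (v' v) d :=
  algebraMap R (Q (v' v) d) (v g)

variable {d : R}

theorem sub_ne {i j : Fin m} (h : i ≠ j) : i.castSucc ≠ j.castSucc :=
  fun e => h (Fin.castSucc_injective _ e)

theorem kk_cubic (hd : d = dI v n') :
    qx (v' v) d .x2 * qx (v' v) d .x3 ^ 2 = qx (v' v) d .x2 ^ 2 * qx (v' v) d .x3
      + kk v d .a * qx (v' v) d .x2 * qx (v' v) d .x3 + (kk v d .cb - kk v d .c) * qx (v' v) d .x2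
      + kk v d .c * qx (v' v) d .x3 +
      (-(kk v d .a + kk v d (.cbi n')) * kk v d .c
        + (kk v d .a + kk v d (.ci n') + kk v d (.cbi n')) * kk v d (.ci n') * kk v d (.cbi n')
        - kk v d (.ci n') * kk v d .cb) := by
  have h1 := qx_cubic (v' v) d
  have h2 : algebraMap R (Q (v' v) d) d = -(kk v d .a + kk v d (.cbi n')) * kk v d .c
      + (kk v d .a + kk v d (.ci n') + kk v d (.cbi n')) * kk v d (.ci n') * kk v d (.cbi n')
      - kk v d (.ci n') * kk v d .cb := by
    rw [congrArg (algebraMap R (Q (v' v) d)) hd]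
    simp only [dI, map_sub, map_add, map_mul, map_neg]
  rw [← h2]
  exact h1

theorem qr2 (j : Fin m) : qx (v' v) d .x2 * qx (v' v) d (.xi j) =
    qx (v' v) d .x2 * qx (v' v) d .x3 + kk v d (.ci j.castSucc) * qx (v' v) d (.xi j) +
      kk v d (.cbi j.castSucc) * qx (v' v) d .x2 - kk v d .c :=
  (qx_rels (v' v) d).r2 j

theorem qr3 (j : Fin m) : qx (v' v) d .x3 * qx (v' v) d (.xi j) =
    qx (v' v) d .x2 * qx (v' v) d .x3 +
      (kk v d .a + kk v d (.ci j.castSucc) + kk v d (.cbi j.castSucc)) *
        (qx (v' v) d (.xi j) - kk v d (.cbi j.castSucc)) + kk v d .cb - kk v d .c :=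
  (qx_rels (v' v) d).r3 j

theorem qrx (i j : Fin m) (h : i ≠ j) : qx (v' v) d (.xi i) * qx (v' v) d (.xi j) =
    qx (v' v) d .x2 * qx (v' v) d .x3 +
      kk v d (.cij i.castSucc j.castSucc (sub_ne h)) * qx (v' v) d (.xi j) +
      kk v d (.cij j.castSucc i.castSucc (sub_ne h).symm) * qx (v' v) d (.xi i) - kk v d .c :=
  (qx_rels (v' v) d).rx i j h

theorem smul_Q (r : R) (x : Q (v' v) d) : r • x = algebraMap R (Q (v' v) d) r * x :=
  Algebra.smul_def r x

theorem kk_ljn (h : Solves v) (j : Fin m) : kk v d (.cij j.castSucc n' (ne' j)) =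
    kk v d .a + kk v d (.ci j.castSucc) + kk v d (.cbi j.castSucc) + kk v d (.ci n') +
      kk v d (.cbi n') - kk v d (.cij n' j.castSucc (ne' j).symm) := by
  simp only [kk, ← map_add, ← map_sub]
  congr 1
  linear_combination h.lin _ _ (ne' j)

theorem kk_lij (h : Solves v) (i j : Fin m) (hij : i ≠ j) :
    kk v d (.cij i.castSucc j.castSucc (sub_ne hij)) =
      kk v d .a + kk v d (.ci i.castSucc) + kk v d (.cbi i.castSucc) + kk v d (.ci j.castSucc) +
        kk v d (.cbi j.castSucc) - kk v d (.cij j.castSucc i.castSucc (sub_ne hij).symm) := by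
  simp only [kk, ← map_add, ← map_sub]
  congr 1
  linear_combination h.lin _ _ (sub_ne hij)

theorem kk_qc (h : Solves v) (j : Fin m) : kk v d .c =
    kk v d (.cij n' j.castSucc (ne' j).symm) * kk v d (.ci n') +
      kk v d (.cij j.castSucc n' (ne' j)) * kk v d (.ci j.castSucc) -
      kk v d (.ci j.castSucc) * kk v d (.ci n') := by
  simp only [kk, ← map_mul, ← map_add, ← map_sub]
  exact congrArg _ (h.qc _ _ (ne' j))

theorem kk_qb (h : Solves v) (j : Fin m) : kk v d .cb =
    kk v d (.cij n' j.castSucc (ne' j).symm) * kk v d (.cbi j.castSucc) +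
      kk v d (.cij j.castSucc n' (ne' j)) * kk v d (.cbi n') -
      kk v d (.cbi j.castSucc) * kk v d (.cbi n') := by
  simp only [kk, ← map_mul, ← map_add, ← map_sub]
  exact congrArg _ (h.qb _ _ (ne' j))

theorem kk_cub (h : Solves v) (i j k : Fin (m + 1)) (a : i ≠ j) (b : j ≠ k) (c : i ≠ k) :
    kk v d (.cij i j a) * kk v d (.cij j k b) + kk v d (.cij j i a.symm) * kk v d (.cij i k c) -
      kk v d (.cij i k c) * kk v d (.cij j k b) +
      (kk v d .a + kk v d (.ci k) + kk v d (.cbi k)) * kk v d (.ci k) = kk v d .c := by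
  simp only [kk, ← map_mul, ← map_add, ← map_sub]
  exact congrArg _ (h.cub i j k a b c)

theorem lv_rel (h : Solves v) (hd : d = dI v n') :
    ∀ p ∈ QRel (v' v) d, aeval (lv v) p = 0 := by
  rintro p (hp | hp)
  · refine eval_CRel_of_rels (v := v' v) (x := lv v) ⟨fun j => ?_, fun j => ?_, fun i j hij => ?_⟩ p hp
    all_goals simp only [lv, v', Function.comp_apply, UGen.castSucc, Algebra.algebraMap_self,
      RingHom.id_apply]
    · have l := h.lin _ _ (ne' j)
      linear_combination h.qc _ _ (ne' j) + v (.ci n') * l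
    · have l := h.lin _ _ (ne' j)
      linear_combination h.qc _ _ (ne' j) - h.qb _ _ (ne' j)
        + (v (.ci n') - v (.cbi j.castSucc)) * l
    · linear_combination -h.cub _ _ _ (sub_ne hij) (ne' j) (ne' i)
  · rw [Set.mem_singleton_iff.1 hp]
    refine (aeval_cubicP (v' v) d (lv v)).2 ?_
    simp only [Cubic, lv, v', Function.comp_apply, UGen.castSucc, Algebra.algebraMap_self,
      RingHom.id_apply]
    rw [hd, dI]
    ring

theorem gv_pair (h : Solves v) (hd : d = dI v n') (a b : CVar m) :
    qx (v' v) d a * gv v d b + algebraMap R _ (lv v b) * gv v d a =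
      qx (v' v) d b * gv v d a + algebraMap R _ (lv v a) * gv v d b := by
  have hF := kk_cubic hd
  have P2j := fun j => Ident.p2j (qr2 (d := d) j) (qr3 j) (kk_ljn h j) (kk_qc h j) (kk_qb h j)
  have P3j := fun j => Ident.p3j hF (qr2 j) (qr3 j) (kk_ljn h j) (kk_qc h j) (kk_qb h j)
  have P23 := Ident.p23 hF
  rcases a with _ | _ | i <;> rcases b with _ | _ | j <;> simp only [gv, lv, map_add]
  · linear_combination P23
  · linear_combination P2j j
  · linear_combination (-1 : Q (v' v) d) * P23
  · linear_combination P3j j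
  · linear_combination (-1 : Q (v' v) d) * P2j i
  · linear_combination (-1 : Q (v' v) d) * P3j i
  · by_cases e : i = j
    · subst e; rfl
    linear_combination Ident.pij (qr2 (d := d) i) (qr3 i) (qr2 j) (qr3 j) (qrx i j e) (kk_ljn h j)
      (kk_ljn h i)
      (kk_cub h n' j.castSucc i.castSucc (ne' j).symm (sub_ne (Ne.symm e)) (ne' i).symm)
      (kk_cub h n' i.castSucc j.castSucc (ne' i).symm (sub_ne e) (ne' j).symm)

theorem gv_kills (h : Solves v) (hd : d = dI v n')
    (D0 : MvPolynomial (CVar m) R →ₗ[R] Q (v' v) d) (hC : ∀ r, D0 (C r) = 0)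
    (hX : ∀ y, D0 (X y) = gv v d y)
    (hmul : ∀ p q, D0 (p * q) =
      Ideal.Quotient.mk (Ideal.span (QRel (v' v) d)) p * D0 q + aeval (lv v) q • D0 p) :
    ∀ p ∈ QRel (v' v) d, D0 p = 0 := by
  intro p hp
  have DC : ∀ r q, D0 (C r * q) = algebraMap R _ r * D0 q := by
    intro r q
    rw [hmul, hC, smul_zero, add_zero, mkC]
  have hq : ∀ y, Ideal.Quotient.mk (Ideal.span (QRel (v' v) d)) (X y) = qx (v' v) d y := fun _ => rfl
  simp only [smul_Q] at hmul
  rcases hp with ((⟨j, hj⟩ | ⟨j, hj⟩) | ⟨⟨⟨i, j⟩, hij⟩, hj⟩) | hj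
  · subst hj
    simp only [map_add, map_sub, DC, hmul, hC, hX, hq, aeval_X, mkC, gv, lv, v', Function.comp_apply,
      UGen.castSucc]
    linear_combination Ident.d2 (qr2 (d := d) j) (kk_ljn h j) (kk_qc h j) (kk_qb h j)
  · subst hj
    simp only [map_add, map_sub, DC, hmul, hC, hX, hq, aeval_X, aeval_C, mkC, gv, lv, v',
      Function.comp_apply, UGen.castSucc, mul_zero, zero_mul]
    linear_combination Ident.d3 (kk_cubic hd) (qr3 j) (kk_ljn h j) (kk_qc h j) (kk_qb h j)
  · subst hj
    simp only [map_add, map_sub, DC, hmul, hC, hX, hq, aeval_X, mkC, gv, lv, v', Function.comp_apply,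
      UGen.castSucc]
    linear_combination Ident.dx (qr2 (d := d) i) (qr3 i) (qrx i j hij) (kk_ljn h j) (kk_lij h i j hij)
      (kk_cub h n' j.castSucc i.castSucc (ne' j).symm (sub_ne (Ne.symm hij)) (ne' i).symm)
  · rw [Set.mem_singleton_iff.1 hj]
    simp only [cubicP, map_add, map_sub, sub_mul, DC, hmul, hC, hX, hq, aeval_X, mkC, gv, lv, v',
      Function.comp_apply, UGen.castSucc, map_mul]
    linear_combination Ident.dF (kk_cubic hd)

theorem exists_step_datum (h : Solves v) (hd : d = dI v n') :
    ∃ δ : Ext.Datum R (Q (v' v) d),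
      ∀ y, δ.D (qx _ d y) = gv v d y ∧ δ.lam (qx _ d y) = lv v y :=
  exists_datum (QRel (v' v) d) (gv v d) (lv v) (lv_rel h hd)
    (fun a b => by simp only [smul_Q]; exact gv_pair h hd a b) (gv_kills h hd)

set_option maxHeartbeats 800000 in
theorem indep_step (h : Solves v) (hd : d = dI v n')
    (ih : LinearIndependent R (mon (qx (v' v) d))) : LinearIndependent R (mon (qx v d)) := by
  obtain ⟨δ, hδ⟩ := exists_step_datum h hd
  let ι := Ext.ι δ
  let z := Ext.z δ
  let κ := algebraMap R (Ext.Alg δ)
  let old : CVar m → Ext.Alg δ := fun y => ι (qx (v' v) d y)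
  let nx : CVar (m + 1) → Ext.Alg δ := fun y => match y with
    | .x2 => old .x2
    | .x3 => old .x3
    | .xi i => Fin.lastCases z (fun j => old (.xi j)) i
  have hor : Rels (v' v) old := (qx_rels _ d).map ι
  have hz : ∀ y, old y * z = ι (gv v d y) + κ (lv v y) * z := fun y => by
    rw [Ext.ι_mul_z, (hδ y).1, (hδ y).2, Algebra.smul_def]
  have hrel : Rels v nx := by
    refine ⟨fun i => ?_, fun i => ?_, fun i j hij => ?_⟩
    · induction i using Fin.lastCases with
      | last =>
        simp only [nx, Fin.lastCases_last, hz, gv, lv, map_sub, map_add, map_mul, AlgHom.commutes,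
          old, κ]
        ring
      | cast i => simpa [nx, old, UGen.castSucc] using hor.r2 i
    · induction i using Fin.lastCases with
      | last =>
        simp only [nx, Fin.lastCases_last, hz, gv, lv, map_sub, map_add, map_mul, AlgHom.commutes,
          old, κ]
        ring
      | cast i => simpa [nx, old, UGen.castSucc] using hor.r3 i
    · induction i using Fin.lastCases with
      | last =>
        induction j using Fin.lastCases with
        | last => exact absurd rfl hij
        | cast j =>
          simp only [nx, Fin.lastCases_last, Fin.lastCases_castSucc]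
          rw [mul_comm z, hz]
          simp only [gv, lv, map_sub, map_add, map_mul, AlgHom.commutes, old, κ]
          ring
      | cast i =>
        induction j using Fin.lastCases with
        | last =>
          simp only [nx, Fin.lastCases_last, Fin.lastCases_castSucc, hz, gv, lv, map_sub, map_add,
            map_mul, AlgHom.commutes, old, κ]
          ring
        | cast j =>
          simp only [nx, Fin.lastCases_castSucc]
          exact hor.rx i j fun e => hij (congrArg _ e)
  have hcub : Cubic v nx d := by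
    have := congrArg ι (qx_cubic (v' v) d)
    simpa [Cubic, nx, old, UGen.castSucc] using this
  refine LinearIndependent.of_comp ((Ext.ev δ).comp (qlift hrel hcub).toLinearMap) ?_
  have hc : (Ext.ev δ).comp (qlift hrel hcub).toLinearMap ∘ mon (qx v d) = (Ext.ev δ) ∘ mon nx := by
    funext k
    have := congrFun (map_mon (qx v d) (qlift hrel hcub)) k
    simp only [Function.comp_apply] at this ⊢
    rw [LinearMap.comp_apply, AlgHom.toLinearMap_apply, this]
    congr 2
    funext y
    exact qlift_qx hrel hcub y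
  rw [hc]
  let σ : Option (ℕ ⊕ (CVar (m + 1) × ℕ)) → Option (ℕ ⊕ (CVar m × ℕ)) ⊕ ℕ := fun k => match k with
    | none => .inl none
    | some (.inl k) => .inl (some (.inl k))
    | some (.inr (.x2, k)) => .inl (some (.inr (.x2, k)))
    | some (.inr (.x3, k)) => .inl (some (.inr (.x3, k)))
    | some (.inr (.xi i, k)) => Fin.lastCases (.inr k) (fun j => .inl (some (.inr (.xi j, k)))) i
  let τ : Option (ℕ ⊕ (CVar m × ℕ)) ⊕ ℕ → Option (ℕ ⊕ (CVar (m + 1) × ℕ)) := fun k => match k with
    | .inl none => none
    | .inl (some (.inl k)) => some (.inl k)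
    | .inl (some (.inr (.x2, k))) => some (.inr (.x2, k))
    | .inl (some (.inr (.x3, k))) => some (.inr (.x3, k))
    | .inl (some (.inr (.xi i, k))) => some (.inr (.xi i.castSucc, k))
    | .inr k => some (.inr (.xi n', k))
  have hσ : Function.LeftInverse τ σ := by
    intro k
    rcases k with _ | k | ⟨_ | _ | i, k⟩ <;> try rfl
    induction i using Fin.lastCases <;> simp [σ, τ]
  have key : Ext.ev δ ∘ mon nx = Sum.elim (LinearMap.inl R (Q (v' v) d) (Polynomial R) ∘ mon (qx (v' v) d))
      (LinearMap.inr R (Q (v' v) d) (Polynomial R) ∘ fun k => Polynomial.X ^ k) ∘ σ := by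
    funext k
    rcases k with _ | k | ⟨_ | _ | i, k⟩
    · have := Ext.ev_ι δ (1 : Q (v' v) d)
      simpa [mon, σ] using this
    · have := Ext.ev_ι δ (qx (v' v) d .x2 ^ (k + 1) * qx (v' v) d .x3)
      simpa [mon, σ, nx, old, ι] using this
    · have := Ext.ev_ι δ (qx (v' v) d .x2 ^ (k + 1))
      simpa [mon, σ, nx, old, ι] using this
    · have := Ext.ev_ι δ (qx (v' v) d .x3 ^ (k + 1))
      simpa [mon, σ, nx, old, ι] using this
    · induction i using Fin.lastCases with
      | last => simpa [mon, σ, nx, z] using Ext.ev_z_pow δ k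
      | cast j =>
        have := Ext.ev_ι δ (qx (v' v) d (.xi j) ^ (k + 1))
        simpa [mon, σ, nx, old, ι] using this
  rw [key]
  refine LinearIndependent.comp ?_ σ hσ.injective
  refine linearIndependent_inl_union_inr' ih ?_
  simpa [Polynomial.coe_basisMonomials, Polynomial.monomial_one_right_eq_X_pow] using
    (Polynomial.basisMonomials R).linearIndependent

end Step

theorem indep_Q : ∀ {m : ℕ} (v : UGen m → R), Solves v → ∀ d : R, (∀ i, d = dI v i) →
    LinearIndependent R (mon (qx v d)) := by
  intro m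
  induction m with
  | zero =>
    intro v _ d _
    let x : CVar 0 → CurveAlg3 R (v .a) (v .cb - v .c) (v .c) d := fun y => match y with
      | .x2 => Ideal.Quotient.mk _ (X 0)
      | .x3 => Ideal.Quotient.mk _ (X 1)
      | .xi i => i.elim0
    have hr : Rels v x := ⟨fun i => i.elim0, fun i => i.elim0, fun i => i.elim0⟩
    have hc : Cubic v x d := by
      have h0 : Ideal.Quotient.mk _ (X 0 * X 1 ^ 2 - X 0 ^ 2 * X 1 -
          (C (v .a) * X 0 * X 1 + C (v .cb - v .c) * X 0 + C (v .c) * X 1 + C d)) =
          (0 : CurveAlg3 R (v .a) (v .cb - v .c) (v .c) d) :=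
        Ideal.Quotient.eq_zero_iff_mem.2 (Ideal.subset_span rfl)
      simp only [map_sub, map_add, map_mul, map_pow] at h0
      show _ = _
      simp only [x, ← Ideal.Quotient.mk_algebraMap, MvPolynomial.algebraMap_eq]
      linear_combination h0
    let e : CVar 0 → Fin 2 := fun y => match y with
      | .x2 => 0
      | .x3 => 1
      | .xi i => i.elim0
    have he : Function.Injective e := by
      rintro (_ | _ | i) (_ | _ | j) h <;> first | rfl | exact i.elim0 | exact j.elim0 | simp [e] at h
    refine LinearIndependent.of_comp (qlift hr hc).toLinearMap ?_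
    have hk : (qlift hr hc).toLinearMap ∘ mon (qx v d) =
        cmon3 R (v .a) (v .cb - v .c) (v .c) d ∘ Option.map (Sum.map id (Prod.map e id)) := by
      funext k
      rcases k with _ | k | ⟨_ | _ | i, k⟩ <;>
        first
          | exact i.elim0
          | simp [mon, cmon3, qlift_qx, x, e]
    rw [hk]
    exact (Groth.Agent.S18251.result R _ _ _ _).1.comp _
      (Option.map_injective (Function.Injective.sumMap Function.injective_id
        (he.prodMap Function.injective_id)))
  | succ m ih =>
    intro v h d hd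
    exact indep_step h (hd _) (ih _ (solves' h) d fun i => hd i.castSucc)

/-- Independence in the curve algebra. -/
theorem indep_cmon {m : ℕ} (hm : 1 ≤ m) (v : UGen m → R) (h : Solves v) :
    LinearIndependent R (cmon R m v) := by
  let i0 : Fin m := ⟨0, hm⟩
  have hq := indep_Q v h (dI v i0) fun i => dI_eq v h i0 i
  have hc : lift (qx_rels v (dI v i0)) ∘ cmon R m v = mon (qx v (dI v i0)) := by
    rw [cmon_eq, map_mon]
    congr 1
    funext y
    exact lift_cx _ y
  exact LinearIndependent.of_comp (lift (qx_rels v (dI v i0))).toLinearMap (by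
    rw [AlgHom.coe_toLinearMap, hc]; exact hq)

end Groth.Agent.L21.UCurve

end
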