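import Groth.Agent.L21.UCurve.Rels
import Mathlib.RingTheory.Adjoin.Basic
import Mathlib.LinearAlgebra.Span.Basic

/-!
The monomial family spans any algebra generated by elements satisfying the curve relations.
-/

noncomputable section

namespace Groth.Agent.L21.UCurve

universe u w

open W4c5m1nsnscurves

variable {R : Type u} [CommRing R] {m : ℕ} {v : UGen m → R}
  {A : Type w} [CommRing A] [Algebra R A] {x : CVar m → A} {d : R}

local notation "κ" => algebraMap R A

variable (x) in
/-- The span of the monomial family. -/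
def MS : Submodule R A := Submodule.span R (Set.range (mon x))

theorem mon_mem (k) : mon x k ∈ MS (R := R) x := Submodule.subset_span ⟨k, rfl⟩

theorem pow_mem_MS (y : CVar m) : ∀ k : ℕ, x y ^ k ∈ MS (R := R) x
  | 0 => by rw [pow_zero]; exact mon_mem none
  | k + 1 => mon_mem (some (.inr (y, k)))

theorem kmul_mem (r : R) {a : A} (h : a ∈ MS (R := R) x) : κ r * a ∈ MS (R := R) x := by
  rw [← Algebra.smul_def]; exact Submodule.smul_mem _ r h

theorem x23_mem (hc : Cubic v x d) : ∀ k l : ℕ, x .x2 ^ l * x .x3 ^ k ∈ MS (R := R) x := by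
  intro k
  induction k using Nat.strong_induction_on with
  | _ k ih =>
    intro l
    match k, l with
    | _, 0 => rw [pow_zero, one_mul]; exact pow_mem_MS _ _
    | 0, l + 1 => rw [pow_zero, mul_one]; exact pow_mem_MS _ _
    | 1, l + 1 => rw [pow_one]; exact mon_mem (some (.inl l))
    | k + 2, l + 1 =>
      have e : x .x2 ^ (l + 1) * x .x3 ^ (k + 2) =
          x .x2 ^ (l + 2) * x .x3 ^ (k + 1) + κ (v .a) * (x .x2 ^ (l + 1) * x .x3 ^ (k + 1))
          + κ (v .cb) * (x .x2 ^ (l + 1) * x .x3 ^ k) - κ (v .c) * (x .x2 ^ (l + 1) * x .x3 ^ k)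
          + κ (v .c) * (x .x2 ^ l * x .x3 ^ (k + 1)) + κ d * (x .x2 ^ l * x .x3 ^ k) := by
        simp only [Cubic] at hc
        linear_combination (x .x2 ^ l * x .x3 ^ k) * hc
      rw [e]
      have h1 := ih (k + 1) (by omega)
      have h0 := ih k (by omega)
      exact add_mem (add_mem (sub_mem (add_mem (add_mem (h1 _) (kmul_mem _ (h1 _))) (kmul_mem _ (h0 _)))
        (kmul_mem _ (h0 _))) (kmul_mem _ (h1 _))) (kmul_mem _ (h0 _))

theorem x23i_mem (hr : Rels v x) (hc : Cubic v x d) (i : Fin m) :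
    ∀ k l e : ℕ, x .x2 ^ l * x .x3 ^ e * x (.xi i) ^ k ∈ MS (R := R) x := by
  intro k
  induction k with
  | zero => intro l e; rw [pow_zero, mul_one]; exact x23_mem hc e l
  | succ k ih =>
    intro l
    induction l with
    | zero =>
      intro e
      induction e with
      | zero => rw [pow_zero, pow_zero, one_mul, one_mul]; exact pow_mem_MS _ _
      | succ e ihe =>
        rw [show x .x2 ^ 0 * x .x3 ^ (e + 1) * x (.xi i) ^ (k + 1) =
            x .x2 ^ 1 * x .x3 ^ (e + 1) * x (.xi i) ^ k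
            + κ (v .a) * (x .x2 ^ 0 * x .x3 ^ e * x (.xi i) ^ (k + 1))
            + κ (v (.ci i)) * (x .x2 ^ 0 * x .x3 ^ e * x (.xi i) ^ (k + 1))
            + κ (v (.cbi i)) * (x .x2 ^ 0 * x .x3 ^ e * x (.xi i) ^ (k + 1))
            - κ (v .a) * (κ (v (.cbi i)) * (x .x2 ^ 0 * x .x3 ^ e * x (.xi i) ^ k))
            - κ (v (.ci i)) * (κ (v (.cbi i)) * (x .x2 ^ 0 * x .x3 ^ e * x (.xi i) ^ k))
            - κ (v (.cbi i)) * (κ (v (.cbi i)) * (x .x2 ^ 0 * x .x3 ^ e * x (.xi i) ^ k))
            + κ (v .cb) * (x .x2 ^ 0 * x .x3 ^ e * x (.xi i) ^ k)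
            - κ (v .c) * (x .x2 ^ 0 * x .x3 ^ e * x (.xi i) ^ k) by
          linear_combination (x .x3 ^ e * x (.xi i) ^ k) * hr.r3 i]
        exact sub_mem (add_mem (sub_mem (sub_mem (sub_mem (add_mem (add_mem (add_mem (ih _ _)
          (kmul_mem _ ihe)) (kmul_mem _ ihe)) (kmul_mem _ ihe)) (kmul_mem _ (kmul_mem _ (ih _ _))))
          (kmul_mem _ (kmul_mem _ (ih _ _)))) (kmul_mem _ (kmul_mem _ (ih _ _))))
          (kmul_mem _ (ih _ _))) (kmul_mem _ (ih _ _))
    | succ l ihl =>
      intro e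
      rw [show x .x2 ^ (l + 1) * x .x3 ^ e * x (.xi i) ^ (k + 1) =
          x .x2 ^ (l + 1) * x .x3 ^ (e + 1) * x (.xi i) ^ k
          + κ (v (.ci i)) * (x .x2 ^ l * x .x3 ^ e * x (.xi i) ^ (k + 1))
          + κ (v (.cbi i)) * (x .x2 ^ (l + 1) * x .x3 ^ e * x (.xi i) ^ k)
          - κ (v .c) * (x .x2 ^ l * x .x3 ^ e * x (.xi i) ^ k) by
        linear_combination (x .x2 ^ l * x .x3 ^ e * x (.xi i) ^ k) * hr.r2 i]
      exact sub_mem (add_mem (add_mem (ih _ _) (kmul_mem _ (ihl _))) (kmul_mem _ (ih _ _)))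
        (kmul_mem _ (ih _ _))

theorem xij_mem (hr : Rels v x) (hc : Cubic v x d) (i j : Fin m) :
    ∀ k : ℕ, x (.xi i) * x (.xi j) ^ k ∈ MS (R := R) x := by
  intro k
  by_cases h : i = j
  · subst h; rw [← pow_succ']; exact pow_mem_MS _ _
  induction k with
  | zero => simpa using pow_mem_MS (R := R) (x := x) (.xi i) 1
  | succ k ih =>
    rw [show x (.xi i) * x (.xi j) ^ (k + 1) =
        x .x2 ^ 1 * x .x3 ^ 1 * x (.xi j) ^ k + κ (v (.cij i j h)) * x (.xi j) ^ (k + 1)
        + κ (v (.cij j i (Ne.symm h))) * (x (.xi i) * x (.xi j) ^ k) - κ (v .c) * x (.xi j) ^ k by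
      linear_combination (x (.xi j) ^ k) * hr.rx i j h]
    exact sub_mem (add_mem (add_mem (x23i_mem hr hc j k 1 1) (kmul_mem _ (pow_mem_MS _ _)))
      (kmul_mem _ ih)) (kmul_mem _ (pow_mem_MS _ _))

theorem x_mul_mem (hr : Rels v x) (hc : Cubic v x d) (y : CVar m) {a : A}
    (ha : a ∈ MS (R := R) x) : x y * a ∈ MS (R := R) x := by
  induction ha using Submodule.span_induction with
  | zero => rw [mul_zero]; exact zero_mem _
  | add a b _ _ ha hb => rw [mul_add]; exact add_mem ha hb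
  | smul r a _ ha => rw [mul_smul_comm]; exact Submodule.smul_mem _ r ha
  | mem a ha =>
    obtain ⟨k, rfl⟩ := ha
    rcases k with _ | k | ⟨z, k⟩
    · simpa [mon] using pow_mem_MS (R := R) (x := x) y 1
    · simp only [mon]
      cases y with
      | x2 => rw [← mul_assoc, ← pow_succ']; exact mon_mem (some (.inl (k + 1)))
      | x3 =>
        rw [show x .x3 * (x .x2 ^ (k + 1) * x .x3) = x .x2 ^ (k + 1) * x .x3 ^ 2 by ring]
        exact x23_mem hc _ _
      | xi i =>
        rw [show x (.xi i) * (x .x2 ^ (k + 1) * x .x3) =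
          x .x2 ^ (k + 1) * x .x3 ^ 1 * x (.xi i) ^ 1 by ring]
        exact x23i_mem hr hc i _ _ _
    · simp only [mon]
      cases y with
      | x2 =>
        cases z with
        | x2 => rw [← pow_succ']; exact pow_mem_MS _ _
        | x3 =>
          rw [show x .x2 * x .x3 ^ (k + 1) = x .x2 ^ 1 * x .x3 ^ (k + 1) by ring]
          exact x23_mem hc _ _
        | xi j =>
          rw [show x .x2 * x (.xi j) ^ (k + 1) = x .x2 ^ 1 * x .x3 ^ 0 * x (.xi j) ^ (k + 1) by ring]
          exact x23i_mem hr hc j _ _ _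
      | x3 =>
        cases z with
        | x2 =>
          rw [show x .x3 * x .x2 ^ (k + 1) = x .x2 ^ (k + 1) * x .x3 ^ 1 by ring]
          exact x23_mem hc _ _
        | x3 => rw [← pow_succ']; exact pow_mem_MS _ _
        | xi j =>
          rw [show x .x3 * x (.xi j) ^ (k + 1) = x .x2 ^ 0 * x .x3 ^ 1 * x (.xi j) ^ (k + 1) by ring]
          exact x23i_mem hr hc j _ _ _
      | xi i =>
        cases z with
        | x2 =>
          rw [show x (.xi i) * x .x2 ^ (k + 1) = x .x2 ^ (k + 1) * x .x3 ^ 0 * x (.xi i) ^ 1 by ring]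
          exact x23i_mem hr hc i _ _ _
        | x3 =>
          rw [show x (.xi i) * x .x3 ^ (k + 1) = x .x2 ^ 0 * x .x3 ^ (k + 1) * x (.xi i) ^ 1 by ring]
          exact x23i_mem hr hc i _ _ _
        | xi j => exact xij_mem hr hc i j _

theorem span_mon_eq_top (hr : Rels v x) (hc : Cubic v x d)
    (hx : Algebra.adjoin R (Set.range x) = ⊤) : Submodule.span R (Set.range (mon x)) = ⊤ := by
  have key : ∀ a ∈ Algebra.adjoin R (Set.range x), ∀ b ∈ MS (R := R) x, a * b ∈ MS (R := R) x := by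
    intro a ha
    induction ha using Algebra.adjoin_induction with
    | mem a ha => obtain ⟨y, rfl⟩ := ha; exact fun b hb => x_mul_mem hr hc y hb
    | algebraMap r => exact fun b hb => kmul_mem r hb
    | add a b _ _ ha hb => exact fun e he => by rw [add_mul]; exact add_mem (ha e he) (hb e he)
    | mul a b _ _ ha hb => exact fun e he => by rw [mul_assoc]; exact ha _ (hb e he)
  rw [eq_top_iff]
  intro a _
  have h := key a (by rw [hx]; trivial) 1 (mon_mem none)
  rwa [mul_one] at h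

theorem adjoin_cx (v : UGen m → R) : Algebra.adjoin R (Set.range (cx v)) = ⊤ := by
  rw [Algebra.adjoin_range_eq_range_aeval, AlgHom.range_eq_top]
  intro a
  obtain ⟨p, rfl⟩ := Ideal.Quotient.mk_surjective a
  exact ⟨p, aeval_cx v p⟩

theorem span_cmon (hm : 1 ≤ m) (v : UGen m → R) :
    Submodule.span R (Set.range (cmon R m v)) = ⊤ := by
  rw [cmon_eq]
  exact span_mon_eq_top (cx_rels v) ((cx_rels v).cubic ⟨0, hm⟩) (adjoin_cx v)

end Groth.Agent.L21.UCurve

end
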