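import Groth.Agent.L21.UCurve.Grading
import Groth.Agent.S18246
import Groth.Agent.S18247
import Mathlib.RingTheory.AlgebraTower
import Mathlib.RingTheory.PowerSeries.Basic
import Mathlib.Algebra.Order.Antidiag.Finsupp

/-!
A homogeneous `ℤ`-basis of the coordinate ring of `U_n` with the predicted Hilbert series.
-/

noncomputable section

namespace Groth.Agent.L21.UCurve

open W4c5m1nsnscurves MvPolynomial
open scoped Classical

/-- A homogeneous basis with the Hilbert series `uhilb`. -/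
structure HBasis (m : ℕ) : Type 1 where
  ι : Type
  b : Module.Basis ι ℤ (URing ℤ m)
  wt : ι → ℕ
  hb : ∀ i, b i ∈ upiece ℤ m (wt i)
  fib : ℕ → Finset ι
  mem_fib : ∀ i d, i ∈ fib d ↔ wt i = d
  card_fib : ∀ d, ((fib d).card : ℤ) = PowerSeries.coeff d (uhilb m)

def cvEquiv (m : ℕ) : CVar m ≃ Option (Option (Fin m)) where
  toFun y := match y with
    | .x2 => none
    | .x3 => some none
    | .xi i => some (some i)
  invFun o := match o with
    | none => .x2
    | some none => .x3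
    | some (some i) => .xi i
  left_inv y := by cases y <;> rfl
  right_inv o := by rcases o with _ | _ | i <;> rfl

instance (m : ℕ) : Fintype (CVar m) := Fintype.ofEquiv _ (cvEquiv m).symm

theorem card_CVar (m : ℕ) : Fintype.card (CVar m) = m + 2 := by
  rw [Fintype.card_congr (cvEquiv m), Fintype.card_option, Fintype.card_option, Fintype.card_fin]

abbrev Kx (m : ℕ) : Type := Option (ℕ ⊕ (CVar m × ℕ))

/-- Weight of a curve monomial. -/
def kwt {m : ℕ} : Kx m → ℕ
  | none => 0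
  | some (.inl k) => k + 2
  | some (.inr (_, k)) => k + 1

/-- The monomials of given weight. -/
def kfib (m : ℕ) : ℕ → Finset (Kx m)
  | 0 => {none}
  | k + 1 => ((Finset.univ : Finset (CVar m)).image fun y => some (.inr (y, k))) ∪
      (match k with
        | 0 => ∅
        | l + 1 => {some (.inl l)})

theorem mem_kfib {m : ℕ} (i : Kx m) (d : ℕ) : i ∈ kfib m d ↔ kwt i = d := by
  rcases d with _ | _ | d <;> rcases i with _ | k | ⟨y, k⟩ <;> simp [kfib, kwt, eq_comm]

/-- The series `(1 + (m+1) t + t²) / (1 - t)`. -/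
def kser (m : ℕ) : PowerSeries ℤ :=
  (PowerSeries.mk fun _ => (1 : ℤ)) *
    (1 + PowerSeries.C ((m : ℤ) + 1) * PowerSeries.X + PowerSeries.X ^ 2)

theorem card_kfib (m d : ℕ) : ((kfib m d).card : ℤ) = PowerSeries.coeff d (kser m) := by
  have hm1 : ∀ e, PowerSeries.coeff e (PowerSeries.mk fun _ => (1 : ℤ)) = 1 := fun e => by simp
  have hinj : ∀ k : ℕ, Function.Injective (fun y : CVar m => (some (.inr (y, k)) : Kx m)) :=
    fun k y y' h => by simpa using h
  unfold kser
  generalize hq : ((m : ℤ) + 1) = q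
  have hmq : ∀ e, PowerSeries.coeff e ((PowerSeries.mk fun _ => (1 : ℤ)) * (q : PowerSeries ℤ)) = q := by
    intro e
    rw [← eq_intCast (PowerSeries.C (R := ℤ)) q, PowerSeries.coeff_mul_C, hm1, one_mul]
  simp only [mul_add, mul_one, map_add, ← mul_assoc, sq]
  rcases d with _ | _ | d
  · simp [kfib]
  · simp [kfib, PowerSeries.coeff_succ_mul_X, PowerSeries.coeff_mul_C,
      Finset.card_image_of_injective _ (hinj 0), card_CVar, hm1, hmq, ← hq]
    ring
  · have hdis : Disjoint ((Finset.univ : Finset (CVar m)).image fun y => (some (.inr (y, d + 1)) : Kx m))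
        {some (.inl d)} := by simp [Finset.disjoint_left]
    simp [kfib, Finset.card_union_of_disjoint hdis, PowerSeries.coeff_succ_mul_X,
      PowerSeries.coeff_mul_C, Finset.card_image_of_injective _ (hinj (d + 1)), card_CVar, hm1, hmq]
    rw [← hq]; ring

theorem uhilb_succ {m : ℕ} (hm : 2 ≤ m) : uhilb (m + 1) = uhilb m * kser m := by
  simp only [uhilb, kser]
  rw [Finset.prod_Icc_succ_top (by omega : 3 ≤ m + 1), Nat.add_right_comm m 1 4, pow_succ]
  push_cast
  ring

/-- The six generators for five marked points. -/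
def gen6 : Fin 6 → UGen 2 :=
  ![.a, .ci 0, .cbi 0, .ci 1, .cbi 1, .cij 0 1 Fin.zero_ne_one]

theorem exists_base : Nonempty (HBasis 2) := by
  let φ : MvPolynomial (Fin 6) ℤ →ₐ[ℤ] URing ℤ 2 := aeval (ugen ℤ 2 ∘ gen6)
  have hbij : Function.Bijective φ := by
    have h := Groth.Agent.S18247.result
    have e : (ugen ℤ 2 ∘ gen6) = ![ugen ℤ 2 .a, ugen ℤ 2 (.ci 0), ugen ℤ 2 (.cbi 0), ugen ℤ 2 (.ci 1),
        ugen ℤ 2 (.cbi 1), ugen ℤ 2 (.cij 0 1 Fin.zero_ne_one)] := by
      funext i; fin_cases i <;> rfl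
    simpa [φ, e] using h
  let b := (MvPolynomial.basisMonomials (Fin 6) ℤ).map (AlgEquiv.ofBijective φ hbij).toLinearEquiv
  refine ⟨⟨Fin 6 →₀ ℕ, b, fun s => ∑ i, s i, fun s => ?_,
    fun d => (Finset.univ : Finset (Fin 6)).finsuppAntidiag d, fun s d => by simp [Finset.mem_finsuppAntidiag],
    fun d => ?_⟩⟩
  · have hv : b s = Ideal.Quotient.mk _ (rename gen6 (monomial s 1)) := by
      show φ (monomial s 1) = _
      have : φ = (Ideal.Quotient.mkₐ ℤ _).comp (rename gen6) := by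
        refine algHom_ext fun i => ?_
        simp [φ, ugen]
      rw [this]
      rfl
    rw [hv, rename_monomial]
    refine GrQuot.mk_mem_quot _ _ ((mem_weightedHomogeneousSubmodule _ _ _ _).2
      (isWeightedHomogeneous_monomial _ _ _ ?_))
    rw [Finsupp.weight_apply, Finsupp.sum_mapDomain_index (h := fun (g : UGen 2) (c : ℕ) => c • uwt g)
      (fun _ => zero_smul ℕ _) (fun _ _ _ => add_smul _ _ _), Finsupp.sum_fintype _ _ (fun _ => by simp)]
    refine Finset.sum_congr rfl fun i _ => ?_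
    fin_cases i <;> simp [gen6, uwt]
  · have h : uhilb 2 = ∏ _i : Fin 6, (PowerSeries.mk fun _ => (1 : ℤ)) := by
      simp [uhilb]
    rw [h, PowerSeries.coeff_prod]
    simp

theorem mon_mem_piece {m n : ℕ} (x : CVar m → URing ℤ n) (hx : ∀ z, x z ∈ upiece ℤ n 1) :
    ∀ k : Kx m, mon x k ∈ upiece ℤ n (kwt k)
  | none => upiece_one ℤ n
  | some (.inl k) => upiece_mul ℤ n (d := k + 1) (e := 1) (upiece_pow ℤ n (hx _) (k + 1)) (hx _)
  | some (.inr (z, k)) => upiece_pow ℤ n (hx _) (k + 1)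

theorem lv_mem_piece {m : ℕ} : ∀ z : CVar m, lv (ugen ℤ (m + 1)) z ∈ upiece ℤ (m + 1) 1
  | .x2 => ugen_mem ℤ (m + 1) (.ci (Fin.last m))
  | .x3 => add_mem (add_mem (ugen_mem ℤ (m + 1) .a) (ugen_mem ℤ (m + 1) (.ci (Fin.last m))))
      (ugen_mem ℤ (m + 1) (.cbi (Fin.last m)))
  | .xi j => ugen_mem ℤ (m + 1) (.cij j.castSucc (Fin.last m) (Fin.castSucc_lt_last j).ne)

theorem map_cmon_mem {m : ℕ} (e : Inv.C' ℤ m ≃+* URing ℤ (m + 1))
    (hx : ∀ z : CVar m, e (cx (ugen ℤ m) z) = lv (ugen ℤ (m + 1)) z) (k : Kx m) :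
    e (cmon (URing ℤ m) m (ugen ℤ m) k) ∈ upiece ℤ (m + 1) (kwt k) := by
  have h : e (cmon (URing ℤ m) m (ugen ℤ m) k) = mon (lv (ugen ℤ (m + 1))) k := by
    rw [cmon_eq]
    rcases k with _ | k | ⟨z, k⟩ <;> simp [mon, hx]
  rw [h]
  exact mon_mem_piece _ lv_mem_piece k

theorem exists_step {m : ℕ} (hm : 2 ≤ m) (H : HBasis m) : Nonempty (HBasis (m + 1)) := by
  obtain ⟨e, he, hx⟩ := exists_iso ℤ m
  letI : Algebra (URing ℤ m) (URing ℤ (m + 1)) := (uincl ℤ m).toRingHom.toAlgebra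
  let eA : Inv.C' ℤ m ≃ₐ[URing ℤ m] URing ℤ (m + 1) := AlgEquiv.ofRingEquiv (f := e) he
  have hS : ∀ p ∈ URel (URing ℤ m) m, MvPolynomial.eval (ugen ℤ m) p = 0 :=
    (solves_iff _).2 ugen_solves
  obtain ⟨hli, hsp⟩ := (Groth.Agent.S18246.result (URing ℤ m) m (by omega) (ugen ℤ m)).2 hS
  let c0 : Module.Basis (Kx m) (URing ℤ m) (Inv.C' ℤ m) := Module.Basis.mk hli hsp.ge
  let c := c0.map eA.toLinearEquiv
  haveI : IsScalarTower ℤ (URing ℤ m) (URing ℤ (m + 1)) := ⟨fun n a b => by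
    rw [Algebra.smul_def, Algebra.smul_def, zsmul_eq_mul, zsmul_eq_mul, map_mul, map_intCast, mul_assoc]⟩
  let b := H.b.smulTower c
  refine ⟨⟨H.ι × Kx m, b, fun p => H.wt p.1 + kwt p.2, fun p => ?_,
    fun d => (Finset.antidiagonal d).biUnion fun q => H.fib q.1 ×ˢ kfib m q.2, fun p d => ?_, fun d => ?_⟩⟩
  · obtain ⟨i, k⟩ := p
    have hbv : b (i, k) = uincl ℤ m (H.b i) * e (cmon (URing ℤ m) m (ugen ℤ m) k) := by
      rw [Module.Basis.smulTower_apply, Module.Basis.map_apply, Module.Basis.mk_apply]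
      rfl
    rw [hbv]
    exact upiece_mul ℤ (m + 1) (uincl_mem (H.hb i)) (map_cmon_mem e hx k)
  · simp only [Finset.mem_biUnion, Finset.mem_antidiagonal, Finset.mem_product, H.mem_fib, mem_kfib]
    exact ⟨fun ⟨q, h, h1, h2⟩ => by rw [h1, h2, h], fun h => ⟨(H.wt p.1, kwt p.2), h, rfl, rfl⟩⟩
  · rw [Finset.card_biUnion, uhilb_succ hm, PowerSeries.coeff_mul, Nat.cast_sum]
    · refine Finset.sum_congr rfl fun q _ => ?_
      rw [Finset.card_product, Nat.cast_mul, H.card_fib, card_kfib]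
    · intro q _ q' _ hne
      rw [Function.onFun, Finset.disjoint_left]
      intro p hp hp'
      simp only [Finset.mem_product, H.mem_fib, mem_kfib] at hp hp'
      exact hne (Prod.ext (hp.1.symm.trans hp'.1) (hp.2.symm.trans hp'.2))

theorem exists_hbasis (m : ℕ) (hm : 2 ≤ m) : Nonempty (HBasis m) := by
  induction m, hm using Nat.le_induction with
  | base => exact exists_base
  | succ m hm ih => exact exists_step hm ih.some

end Groth.Agent.L21.UCurve

end
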