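import Groth.Prelude.Def_W4c5m1nsnscurvesU
import Groth.Prelude.Def_W4c5m1nsnscurvesC
import Groth.Prelude.Def_W4c5m1nsnscurvesI
import Mathlib.RingTheory.Ideal.Quotient.Operations
import Mathlib.Algebra.MvPolynomial.CommRing
import Mathlib.Tactic.Ring
import Mathlib.Tactic.LinearCombination

/-!
The relations of `U_n` and of the pointed curve over it, in equational form.
-/

noncomputable section

namespace Groth.Agent.L21.UCurve

universe u w

open W4c5m1nsnscurves MvPolynomial

variable {R : Type u} [CommRing R] {m : ℕ} (v : UGen m → R)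

/-- The relations of `U_n` for an assignment of values. -/
structure Solves : Prop where
  lin : ∀ (i j : Fin m) (h : i ≠ j), v (.cij i j h) + v (.cij j i h.symm) =
    v .a + v (.ci i) + v (.cbi i) + v (.ci j) + v (.cbi j)
  qc : ∀ (i j : Fin m) (h : i ≠ j), v .c =
    v (.cij j i h.symm) * v (.ci j) + v (.cij i j h) * v (.ci i) - v (.ci i) * v (.ci j)
  qb : ∀ (i j : Fin m) (h : i ≠ j), v .cb =
    v (.cij j i h.symm) * v (.cbi i) + v (.cij i j h) * v (.cbi j) - v (.cbi i) * v (.cbi j)
  cub : ∀ (i j k : Fin m) (hij : i ≠ j) (hjk : j ≠ k) (hik : i ≠ k),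
    v (.cij i j hij) * v (.cij j k hjk) + v (.cij j i hij.symm) * v (.cij i k hik) -
      v (.cij i k hik) * v (.cij j k hjk) + (v .a + v (.ci k) + v (.cbi k)) * v (.ci k) = v .c

theorem solves_iff : (∀ p ∈ URel R m, eval v p = 0) ↔ Solves v := by
  constructor
  · intro h
    refine ⟨fun i j hij => ?_, fun i j hij => ?_, fun i j hij => ?_, fun i j k h1 h2 h3 => ?_⟩
    · have := h _ (Or.inl (Or.inl (Or.inl ⟨⟨(i, j), hij⟩, rfl⟩)))
      simp only [map_sub, map_add, eval_X] at this
      linear_combination this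
    · have := h _ (Or.inl (Or.inl (Or.inr ⟨⟨(i, j), hij⟩, rfl⟩)))
      simp only [map_sub, map_add, map_mul, eval_X] at this
      linear_combination -this
    · have := h _ (Or.inl (Or.inr ⟨⟨(i, j), hij⟩, rfl⟩))
      simp only [map_sub, map_add, map_mul, eval_X] at this
      linear_combination -this
    · have := h _ (Or.inr ⟨⟨(i, j, k), h1, h2, h3⟩, rfl⟩)
      simp only [map_sub, map_add, map_mul, eval_X] at this
      linear_combination this
  · rintro ⟨h1, h2, h3, h4⟩ p (((⟨⟨⟨i, j⟩, h⟩, rfl⟩ | ⟨⟨⟨i, j⟩, h⟩, rfl⟩) | ⟨⟨⟨i, j⟩, h⟩, rfl⟩) | ⟨⟨⟨i, j, k⟩, a, b, c⟩, rfl⟩) <;>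
      simp only [map_sub, map_add, map_mul, eval_X]
    · linear_combination h1 i j h
    · linear_combination -h2 i j h
    · linear_combination -h3 i j h
    · linear_combination h4 i j k a b c

/-- The constant term of the cubic satisfied by `x₂, x₃`, computed from the point `i`. -/
def dI (i : Fin m) : R :=
  -(v .a + v (.cbi i)) * v .c + (v .a + v (.ci i) + v (.cbi i)) * v (.ci i) * v (.cbi i)
    - v (.ci i) * v .cb

theorem dI_eq (h : Solves v) (i j : Fin m) : dI v i = dI v j := by
  by_cases hij : i = j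
  · rw [hij]
  have l := h.lin i j hij
  have l' : v (.cij j i (Ne.symm hij)) =
      v .a + v (.ci i) + v (.cbi i) + v (.ci j) + v (.cbi j) - v (.cij i j hij) := by
    linear_combination l
  rw [dI, dI, h.qc i j hij, h.qb i j hij, l']
  ring

variable {A : Type w} [CommRing A] [Algebra R A] (x : CVar m → A)

local notation "κ" => algebraMap R A

/-- The relations of the curve. -/
structure Rels : Prop where
  r2 : ∀ i : Fin m, x .x2 * x (.xi i) =
    x .x2 * x .x3 + κ (v (.ci i)) * x (.xi i) + κ (v (.cbi i)) * x .x2 - κ (v .c)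
  r3 : ∀ i : Fin m, x .x3 * x (.xi i) =
    x .x2 * x .x3 + (κ (v .a) + κ (v (.ci i)) + κ (v (.cbi i))) * (x (.xi i) - κ (v (.cbi i)))
      + κ (v .cb) - κ (v .c)
  rx : ∀ (i j : Fin m) (h : i ≠ j), x (.xi i) * x (.xi j) =
    x .x2 * x .x3 + κ (v (.cij i j h)) * x (.xi j) + κ (v (.cij j i h.symm)) * x (.xi i) - κ (v .c)

/-- The cubic relation between `x₂` and `x₃`. -/
def Cubic (d : R) : Prop :=
  x .x2 * x .x3 ^ 2 = x .x2 ^ 2 * x .x3 + κ (v .a) * x .x2 * x .x3 + (κ (v .cb) - κ (v .c)) * x .x2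
    + κ (v .c) * x .x3 + κ d

theorem Rels.cubic {v : UGen m → R} {x : CVar m → A} (h : Rels v x) (i : Fin m) :
    Cubic v x (dI v i) := by
  simp only [Cubic, dI, map_sub, map_add, map_mul, map_neg]
  linear_combination x .x2 * h.r3 i - x .x3 * h.r2 i - κ (v (.ci i)) * h.r3 i
    + (κ (v .a) + κ (v (.ci i)) + κ (v (.cbi i))) * h.r2 i

/-- The monomials 1, x₂^(k+1) x₃, y^(k+1). -/
def mon : Option (ℕ ⊕ (CVar m × ℕ)) → A
  | none => 1
  | some (.inl k) => x .x2 ^ (k + 1) * x .x3
  | some (.inr (y, k)) => x y ^ (k + 1)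

theorem Rels.map {v : UGen m → R} {x : CVar m → A} (h : Rels v x) {B : Type*} [CommRing B]
    [Algebra R B] (f : A →ₐ[R] B) : Rels v (f ∘ x) := by
  refine ⟨fun i => ?_, fun i => ?_, fun i j hij => ?_⟩
  · simpa using congrArg f (h.r2 i)
  · simpa using congrArg f (h.r3 i)
  · simpa using congrArg f (h.rx i j hij)

theorem eval_CRel_of_rels {v : UGen m → R} {x : CVar m → A} (h : Rels v x) :
    ∀ p ∈ CRel R m v, aeval x p = 0 := by
  rintro p ((⟨i, rfl⟩ | ⟨i, rfl⟩) | ⟨⟨⟨i, j⟩, hij⟩, rfl⟩) <;>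
    simp only [map_sub, map_add, map_mul, aeval_X, aeval_C]
  · linear_combination h.r2 i
  · linear_combination h.r3 i
  · linear_combination h.rx i j hij

theorem rels_of_eval_CRel (hp : ∀ p ∈ CRel R m v, aeval x p = 0) : Rels v x := by
  refine ⟨fun i => ?_, fun i => ?_, fun i j h => ?_⟩
  · have := hp _ (Or.inl (Or.inl ⟨i, rfl⟩))
    simp only [map_sub, map_add, map_mul, aeval_X, aeval_C] at this
    linear_combination this
  · have := hp _ (Or.inl (Or.inr ⟨i, rfl⟩))
    simp only [map_sub, map_add, map_mul, aeval_X, aeval_C] at this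
    linear_combination this
  · have := hp _ (Or.inr ⟨⟨(i, j), h⟩, rfl⟩)
    simp only [map_sub, map_add, map_mul, aeval_X, aeval_C] at this
    linear_combination this

/-- The classes of the variables in the curve algebra. -/
def cx (y : CVar m) : CurveAlg R m v := Ideal.Quotient.mk (Ideal.span (CRel R m v)) (X y)

theorem aeval_cx (p : MvPolynomial (CVar m) R) :
    aeval (cx v) p = Ideal.Quotient.mk (Ideal.span (CRel R m v)) p := by
  rw [← Ideal.Quotient.mkₐ_eq_mk R]
  exact AlgHom.congr_fun (MvPolynomial.algHom_ext (f := aeval (cx v))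
    (g := Ideal.Quotient.mkₐ R _) fun y => by simp [cx]) p

theorem cx_rels : Rels v (cx v) :=
  rels_of_eval_CRel v _ fun p hp => by
    rw [aeval_cx, Ideal.Quotient.eq_zero_iff_mem]
    exact Ideal.subset_span hp

theorem cmon_eq : cmon R m v = mon (cx v) := by
  funext k
  rcases k with _ | k | ⟨y, k⟩ <;> simp [cmon, mon, cx]

/-- The curve algebra is initial among algebras with the relations. -/
def lift {v : UGen m → R} {x : CVar m → A} (h : Rels v x) : CurveAlg R m v →ₐ[R] A :=
  Ideal.Quotient.liftₐ _ (aeval x) fun p hp => by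
    induction hp using Submodule.span_induction with
    | mem q hq => exact eval_CRel_of_rels h q hq
    | zero => simp
    | add a b _ _ ha hb => rw [map_add, ha, hb, add_zero]
    | smul r a _ ha => rw [smul_eq_mul, map_mul, ha, mul_zero]

theorem lift_cx {v : UGen m → R} {x : CVar m → A} (h : Rels v x) (y : CVar m) :
    lift h (cx v y) = x y := by
  simp [lift, cx]

end Groth.Agent.L21.UCurve

end
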