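import Groth.Agent.L21.UCurve.Indep

/-!
`U_(n+1)` is the universal curve over `U_n`.
-/

noncomputable section

namespace Groth.Agent.L21.UCurve

universe u w

open W4c5m1nsnscurves MvPolynomial

variable {R : Type u} [CommRing R] {m : ℕ}

theorem solves_of_aeval {A : Type w} [CommRing A] [Algebra R A] (x : UGen m → A)
    (h : ∀ p ∈ URel R m, aeval x p = 0) : Solves x := by
  refine ⟨fun i j hij => ?_, fun i j hij => ?_, fun i j hij => ?_, fun i j k h1 h2 h3 => ?_⟩
  · have := h _ (Or.inl (Or.inl (Or.inl ⟨⟨(i, j), hij⟩, rfl⟩)))
    simp only [map_sub, map_add, aeval_X] at this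
    linear_combination this
  · have := h _ (Or.inl (Or.inl (Or.inr ⟨⟨(i, j), hij⟩, rfl⟩)))
    simp only [map_sub, map_add, map_mul, aeval_X] at this
    linear_combination -this
  · have := h _ (Or.inl (Or.inr ⟨⟨(i, j), hij⟩, rfl⟩))
    simp only [map_sub, map_add, map_mul, aeval_X] at this
    linear_combination -this
  · have := h _ (Or.inr ⟨⟨(i, j, k), h1, h2, h3⟩, rfl⟩)
    simp only [map_sub, map_add, map_mul, aeval_X] at this
    linear_combination this

theorem aeval_of_solves {A : Type w} [CommRing A] [Algebra R A] {x : UGen m → A} (h : Solves x) :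
    ∀ p ∈ URel R m, aeval x p = 0 := by
  rintro p (((⟨⟨⟨i, j⟩, e⟩, rfl⟩ | ⟨⟨⟨i, j⟩, e⟩, rfl⟩) | ⟨⟨⟨i, j⟩, e⟩, rfl⟩) |
      ⟨⟨⟨i, j, k⟩, a, b, c⟩, rfl⟩) <;>
    simp only [map_sub, map_add, map_mul, aeval_X]
  · linear_combination h.lin i j e
  · linear_combination -h.qc i j e
  · linear_combination -h.qb i j e
  · linear_combination h.cub i j k a b c

theorem aeval_ugen (p : MvPolynomial (UGen m) R) :
    aeval (ugen R m) p = Ideal.Quotient.mk (Ideal.span (URel R m)) p := by
  rw [← Ideal.Quotient.mkₐ_eq_mk R]
  exact AlgHom.congr_fun (MvPolynomial.algHom_ext (f := aeval (ugen R m))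
    (g := Ideal.Quotient.mkₐ R _) fun y => by simp [ugen]) p

theorem ugen_solves : Solves (ugen R m) :=
  solves_of_aeval (R := R) _ fun p hp => by
    rw [aeval_ugen, Ideal.Quotient.eq_zero_iff_mem]
    exact Ideal.subset_span hp

/-- `URing` represents solutions of the relations. -/
def ulift {A : Type w} [CommRing A] [Algebra R A] {x : UGen m → A} (h : Solves x) :
    URing R m →ₐ[R] A :=
  Ideal.Quotient.liftₐ _ (aeval x) fun _ hp =>
    (show Ideal.span (URel R m) ≤ RingHom.ker (aeval x : MvPolynomial (UGen m) R →ₐ[R] A) from
      Ideal.span_le.2 fun q hq => aeval_of_solves h q hq) hp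

theorem ulift_ugen {A : Type w} [CommRing A] [Algebra R A] {x : UGen m → A} (h : Solves x)
    (g : UGen m) : ulift (R := R) h (ugen R m g) = x g := by
  show aeval x (X g) = x g
  simp

theorem uhom_ext {A : Type w} [CommRing A] [Algebra R A] {f g : URing R m →ₐ[R] A}
    (h : ∀ y, f (ugen R m y) = g (ugen R m y)) : f = g :=
  Ideal.Quotient.algHom_ext _ (MvPolynomial.algHom_ext fun y => h y)

theorem uincl_ugen (g : UGen m) : uincl R m (ugen R m g) = ugen R (m + 1) g.castSucc := by
  show Ideal.Quotient.mkₐ R (Ideal.span (URel R (m + 1))) (rename UGen.castSucc (X g)) = _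
  rw [rename_X]
  rfl

namespace Inv

variable (R m)

abbrev C' : Type u := CurveAlg (URing R m) m (ugen R m)

variable {R m}

abbrev k (g : UGen m) : C' R m := algebraMap (URing R m) (C' R m) (ugen R m g)

abbrev y (z : CVar m) : C' R m := cx (ugen R m) z

/-- Values of the generators of `U_(n+1)` in the curve over `U_n`. -/
def w : UGen (m + 1) → C' R m
  | .a => k .a
  | .c => k .c
  | .cb => k .cb
  | .ci i => Fin.lastCases (y .x2) (fun j => k (.ci j)) i
  | .cbi i => Fin.lastCases (y .x3 - k .a - y .x2) (fun j => k (.cbi j)) i
  | .cij i j h =>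
    if hi : i = Fin.last m then
      if hj : j = Fin.last m then absurd (hi.trans hj.symm) h
      else y .x3 + k (.ci (j.castPred hj)) + k (.cbi (j.castPred hj)) - y (.xi (j.castPred hj))
    else
      if hj : j = Fin.last m then y (.xi (i.castPred hi))
      else k (.cij (i.castPred hi) (j.castPred hj) fun e => h (Fin.castPred_inj.1 e))

theorem w_ci_last : w (R := R) (.ci (Fin.last m)) = y .x2 := by simp [w]
theorem w_ci_cast (j : Fin m) : w (R := R) (.ci j.castSucc) = k (.ci j) := by simp [w]
theorem w_cbi_last : w (R := R) (.cbi (Fin.last m)) = y .x3 - k .a - y .x2 := by simp [w]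
theorem w_cbi_cast (j : Fin m) : w (R := R) (.cbi j.castSucc) = k (.cbi j) := by simp [w]

theorem w_cij_last (j : Fin m) (h : Fin.last m ≠ j.castSucc) : w (R := R) (.cij (Fin.last m) j.castSucc h) =
    y .x3 + k (.ci j) + k (.cbi j) - y (.xi j) := by
  simp [w, (Fin.castSucc_lt_last j).ne]

theorem w_cij_cast_last (j : Fin m) (h : j.castSucc ≠ Fin.last m) :
    w (R := R) (.cij j.castSucc (Fin.last m) h) = y (.xi j) := by
  simp [w, (Fin.castSucc_lt_last j).ne]

theorem w_cij_cast (i j : Fin m) (h : i.castSucc ≠ j.castSucc) :
    w (R := R) (.cij i.castSucc j.castSucc h) = k (.cij i j fun e => h (congrArg _ e)) := by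
  simp [w, (Fin.castSucc_lt_last j).ne, (Fin.castSucc_lt_last i).ne]

theorem ident_ink {A : Type*} [CommRing A] {x2 x3 xi xk a c cb ci cbi ck cbk cik cki : A}
    (h3 : x3 * xi = x2 * x3 + (a + ci + cbi) * (xi - cbi) + cb - c)
    (hik : xi * xk = x2 * x3 + cik * xk + cki * xi - c)
    (l : cki = a + ci + cbi + ck + cbk - cik)
    (qc : c = cki * ck + cik * ci - ci * ck) (qb : cb = cki * cbi + cik * cbk - cbi * cbk) :
    xi * (x3 + ck + cbk - xk) + (x3 + ci + cbi - xi) * cik - cik * (x3 + ck + cbk - xk)
      + (a + ck + cbk) * ck = c := by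
  subst qc qb
  subst l
  linear_combination h3 - hik

theorem solves_w : Solves (w (R := R) (m := m)) := by
  have hS : Solves (k : UGen m → C' R m) :=
    solves_of_aeval (R := R) _ fun p hp => by
      have h1 := aeval_of_solves (R := R) (ugen_solves (R := R) (m := m)) p hp
      have h2 := MvPolynomial.comp_aeval_apply (R := R) (f := ugen R m)
        (IsScalarTower.toAlgHom R (URing R m) (C' R m)) p
      rw [h1, map_zero] at h2
      exact h2.symm
  have hr : Rels (ugen R m) (y : CVar m → C' R m) := cx_rels _
  have q1 : ∀ (j : Fin m), (k .c : C' R m) = (y .x3 + k (.ci j) + k (.cbi j) - y (.xi j)) * y .x2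
      + y (.xi j) * k (.ci j) - k (.ci j) * y .x2 := fun j => by linear_combination hr.r2 j
  have q2 : ∀ (j : Fin m), (k .cb : C' R m) =
      (y .x3 + k (.ci j) + k (.cbi j) - y (.xi j)) * k (.cbi j)
      + y (.xi j) * (y .x3 - k .a - y .x2) - k (.cbi j) * (y .x3 - k .a - y .x2) := fun j => by
    linear_combination hr.r2 j - hr.r3 j
  have c1 : ∀ (i j : Fin m) (h : i ≠ j), y (.xi i) * (y .x3 + k (.ci j) + k (.cbi j) - y (.xi j))
      + (y .x3 + k (.ci i) + k (.cbi i) - y (.xi i)) * k (.cij i j h)
      - k (.cij i j h) * (y .x3 + k (.ci j) + k (.cbi j) - y (.xi j))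
      + (k .a + k (.ci j) + k (.cbi j)) * k (.ci j) = (k .c : C' R m) := fun i j h =>
    ident_ink (hr.r3 i) (hr.rx i j h) (by linear_combination hS.lin i j h) (hS.qc i j h) (hS.qb i j h)
  refine ⟨fun i j h => ?_, fun i j h => ?_, fun i j h => ?_, fun i j l h1 h2 h3 => ?_⟩
  · induction i using Fin.lastCases with
    | last =>
      induction j using Fin.lastCases with
      | last => exact absurd rfl h
      | cast j =>
        simp only [w_cij_last, w_cij_cast_last, w_ci_last, w_ci_cast, w_cbi_last, w_cbi_cast]
        show _ = k .a + _ + _ + _ + _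
        ring
    | cast i =>
      induction j using Fin.lastCases with
      | last =>
        simp only [w_cij_last, w_cij_cast_last, w_ci_last, w_ci_cast, w_cbi_last, w_cbi_cast]
        show _ = k .a + _ + _ + _ + _
        ring
      | cast j =>
        simp only [w_cij_cast, w_ci_cast, w_cbi_cast]
        exact hS.lin i j fun e => h (congrArg _ e)
  · induction i using Fin.lastCases with
    | last =>
      induction j using Fin.lastCases with
      | last => exact absurd rfl h
      | cast j =>
        simp only [w_cij_last, w_cij_cast_last, w_ci_last, w_ci_cast]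
        show k .c = _
        linear_combination q1 j
    | cast i =>
      induction j using Fin.lastCases with
      | last =>
        simp only [w_cij_last, w_cij_cast_last, w_ci_last, w_ci_cast]
        show k .c = _
        linear_combination q1 i
      | cast j =>
        simp only [w_cij_cast, w_ci_cast]
        exact hS.qc i j fun e => h (congrArg _ e)
  · induction i using Fin.lastCases with
    | last =>
      induction j using Fin.lastCases with
      | last => exact absurd rfl h
      | cast j =>
        simp only [w_cij_last, w_cij_cast_last, w_cbi_last, w_cbi_cast]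
        show k .cb = _
        linear_combination q2 j
    | cast i =>
      induction j using Fin.lastCases with
      | last =>
        simp only [w_cij_last, w_cij_cast_last, w_cbi_last, w_cbi_cast]
        show k .cb = _
        linear_combination q2 i
      | cast j =>
        simp only [w_cij_cast, w_cbi_cast]
        exact hS.qb i j fun e => h (congrArg _ e)
  · have wa : w (R := R) (m := m) .a = k .a := rfl
    have wc : w (R := R) (m := m) .c = k .c := rfl
    induction i using Fin.lastCases with
    | last =>
      induction j using Fin.lastCases with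
      | last => exact absurd rfl h1
      | cast j =>
        induction l using Fin.lastCases with
        | last => exact absurd rfl h3
        | cast l =>
          simp only [w_cij_last, w_cij_cast_last, w_cij_cast, w_ci_cast, w_cbi_cast, wa, wc]
          linear_combination c1 j l fun e => h2 (congrArg _ e)
    | cast i =>
      induction j using Fin.lastCases with
      | last =>
        induction l using Fin.lastCases with
        | last => exact absurd rfl h2
        | cast l =>
          simp only [w_cij_last, w_cij_cast_last, w_cij_cast, w_ci_cast, w_cbi_cast, wa, wc]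
          linear_combination c1 i l fun e => h3 (congrArg _ e)
      | cast j =>
        induction l using Fin.lastCases with
        | last =>
          simp only [w_cij_cast_last, w_cij_cast, w_ci_last, w_cbi_last, wa, wc]
          linear_combination -(hr.rx i j fun e => h1 (congrArg _ e))
        | cast l =>
          simp only [w_cij_cast, w_ci_cast, w_cbi_cast, wa, wc]
          exact hS.cub i j l _ _ _

end Inv

open Inv in
/-- `O(C_n) ≅ O(U_(n+1))`. -/
theorem exists_iso (R : Type u) [CommRing R] (m : ℕ) :
    ∃ e : C' R m ≃+* URing R (m + 1),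
      (∀ r : URing R m, e (algebraMap (URing R m) (C' R m) r) = uincl R m r) ∧
      ∀ z : CVar m, e (cx (ugen R m) z) = lv (ugen R (m + 1)) z := by
  letI : Algebra (URing R m) (URing R (m + 1)) := (uincl R m).toRingHom.toAlgebra
  have hκ : ∀ r : URing R m, algebraMap (URing R m) (URing R (m + 1)) r = uincl R m r := fun _ => rfl
  have hv := ugen_solves (R := R) (m := m + 1)
  have hrel : Rels (ugen R m) (lv (ugen R (m + 1))) := by
    have h0 := rels_of_eval_CRel (v' (ugen R (m + 1))) (lv (ugen R (m + 1)))
      fun p hp => lv_rel hv rfl p (Or.inl hp)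
    refine ⟨fun i => ?_, fun i => ?_, fun i j h => ?_⟩
    · simpa [hκ, uincl_ugen, UGen.castSucc] using h0.r2 i
    · simpa [hκ, uincl_ugen, UGen.castSucc] using h0.r3 i
    · simpa [hκ, uincl_ugen, UGen.castSucc] using h0.rx i j h
  let f : C' R m →ₐ[URing R m] URing R (m + 1) := lift hrel
  let g0 : URing R (m + 1) →ₐ[R] C' R m := ulift (solves_w (R := R) (m := m))
  have hg0 : ∀ r : URing R m, g0 (uincl R m r) = algebraMap (URing R m) (C' R m) r := by
    have : g0.comp (uincl R m) = IsScalarTower.toAlgHom R (URing R m) (C' R m) := by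
      refine uhom_ext fun t => ?_
      rw [AlgHom.comp_apply, uincl_ugen, ulift_ugen]
      cases t with
      | cij i j h => simp [UGen.castSucc, w_cij_cast, k]
      | _ => simp [UGen.castSucc, w, k]
    exact AlgHom.congr_fun this
  let g : URing R (m + 1) →ₐ[URing R m] C' R m :=
    { g0.toRingHom with commutes' := fun r => hg0 r }
  have hg : ∀ t, g (ugen R (m + 1) t) = w t := fun t => ulift_ugen (R := R) solves_w t
  have hf : ∀ z, f (y z) = lv (ugen R (m + 1)) z := fun z => lift_cx hrel z
  have e1 : g.comp f = AlgHom.id (URing R m) (C' R m) := by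
    refine Ideal.Quotient.algHom_ext _ (MvPolynomial.algHom_ext fun z => ?_)
    show g (f (y z)) = y z
    rw [hf]
    cases z with
    | x2 => simp [lv, hg, w]
    | x3 =>
      simp only [lv, map_add, hg]
      simp [w]
    | xi j => simp [lv, hg, w_cij_cast_last]
  have hfk : ∀ t : UGen m, f (algebraMap (URing R m) (C' R m) (ugen R m t)) = ugen R (m + 1) t.castSucc := by
    intro t; rw [f.commutes, hκ, uincl_ugen]
  have e2 : ∀ t, f (g (ugen R (m + 1) t)) = ugen R (m + 1) t := by
    intro t
    rw [hg]
    cases t with
    | a => exact hfk .a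
    | c => exact hfk .c
    | cb => exact hfk .cb
    | ci i =>
      induction i using Fin.lastCases with
      | last => rw [w_ci_last, hf]; rfl
      | cast j => rw [w_ci_cast]; exact hfk (.ci j)
    | cbi i =>
      induction i using Fin.lastCases with
      | last =>
        rw [w_cbi_last, map_sub, map_sub, hf, hf]
        simp only [k]
        rw [hfk]
        simp only [lv, UGen.castSucc]
        ring
      | cast j => rw [w_cbi_cast]; exact hfk (.cbi j)
    | cij i j h =>
      induction i using Fin.lastCases with
      | last =>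
        induction j using Fin.lastCases with
        | last => exact absurd rfl h
        | cast j =>
          rw [w_cij_last, map_sub, map_add, map_add, hf, hf]
          simp only [k]
          rw [hfk, hfk]
          simp only [lv, UGen.castSucc]
          linear_combination -(hv.lin (Fin.last m) j.castSucc h)
      | cast i =>
        induction j using Fin.lastCases with
        | last => rw [w_cij_cast_last, hf]; rfl
        | cast j => rw [w_cij_cast]; exact hfk (.cij i j _)
  have e2' : ∀ x, f (g x) = x := by
    intro x
    have : (f.restrictScalars R).comp g0 = AlgHom.id R _ := uhom_ext fun t => e2 t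
    exact AlgHom.congr_fun this x
  refine ⟨(AlgEquiv.ofAlgHom f g (AlgHom.ext e2') e1).toRingEquiv, fun r => ?_, hf⟩
  exact f.commutes r

end Groth.Agent.L21.UCurve

end
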